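import Mathlib

/-!
Two small lemmas on automorphisms of an abelian group with few fixed points.
-/

set_option autoImplicit false
set_option maxHeartbeats 400000

open Finset

namespace Cfsg.Agent.ConjRank

variable {M : Type*} [CommGroup M]

theorem auto_norm_fixed (γ : MulAut M) {n : ℕ} (hn : γ ^ n = 1) (m : M) :
    γ (∏ i ∈ range n, (γ ^ i) m) = ∏ i ∈ range n, (γ ^ i) m := by
  rw [map_prod]
  have h : ∀ i, γ ((γ ^ i) m) = (γ ^ (i + 1)) m := fun i => by
    rw [pow_succ', MulAut.mul_apply]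
  simp only [h]
  have h1 : (∏ i ∈ range n, (γ ^ (i + 1)) m) * (γ ^ 0) m = ∏ i ∈ range (n + 1), (γ ^ i) m :=
    (prod_range_succ' (fun i => (γ ^ i) m) n).symm
  rw [prod_range_succ, hn, pow_zero] at h1
  exact mul_right_cancel h1

theorem prod_range_mul_mod {n c : ℕ} (hn : n.Prime) (hc : ¬ n ∣ c) (f : ℕ → M) :
    ∏ i ∈ range n, f (c * i % n) = ∏ i ∈ range n, f i := by
  refine prod_bij' (fun i _ => c * i % n)
    (fun j _ => (((c : ZMod n)⁻¹ * (j : ZMod n))).val) ?_ ?_ ?_ ?_ (fun i _ => rfl)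
  · exact fun i _ => mem_range.mpr (Nat.mod_lt _ hn.pos)
  · intro j _
    haveI := Fact.mk hn
    exact mem_range.mpr (ZMod.val_lt _)
  · intro i hi
    haveI := Fact.mk hn
    have hc0 : (c : ZMod n) ≠ 0 := by rwa [Ne, ZMod.natCast_eq_zero_iff]
    rw [ZMod.natCast_mod, Nat.cast_mul, ← mul_assoc, inv_mul_cancel₀ hc0, one_mul,
      ZMod.val_natCast, Nat.mod_eq_of_lt (mem_range.mp hi)]
  · intro j hj
    haveI := Fact.mk hn
    have hc0 : (c : ZMod n) ≠ 0 := by rwa [Ne, ZMod.natCast_eq_zero_iff]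
    have h1 : ((c * ((c : ZMod n)⁻¹ * (j : ZMod n)).val : ℕ) : ZMod n) = (j : ZMod n) := by
      rw [Nat.cast_mul, ZMod.natCast_val, ZMod.cast_id', id_eq, ← mul_assoc,
        mul_inv_cancel₀ hc0, one_mul]
    have h2 := (ZMod.natCast_eq_natCast_iff' _ _ n).mp h1
    rwa [Nat.mod_eq_of_lt (mem_range.mp hj)] at h2

theorem pow_mem_of_fixed_elementary (α β : MulAut M) (M0 : Subgroup M) {q : ℕ} (hq : q.Prime)
    (hα : α ^ q = 1) (hβ : β ^ q = 1) (hc : Commute α β)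
    (hM0 : ∀ i : ℕ, ∀ x ∈ M0, (α ^ i) x ∈ M0)
    (h : ∀ a b : ℕ, a < q → b < q → (a, b) ≠ (0, 0) → ∀ x, (α ^ a * β ^ b) x = x → x ∈ M0)
    (m : M) : m ^ q ∈ M0 := by
  haveI := Fact.mk hq
  let N : ℕ → M := fun j => ∏ i ∈ range q, ((α * β ^ j) ^ i) m
  have hN : ∀ j ∈ range q, N j ∈ M0 := by
    intro j hj
    refine h 1 j hq.one_lt (mem_range.mp hj) (by simp) _ ?_
    rw [pow_one]
    refine auto_norm_fixed _ ?_ m
    rw [(hc.pow_right j).mul_pow, hα, ← pow_mul, mul_comm j q, pow_mul, hβ, one_pow, one_mul]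
  have hP : ∏ i ∈ range q, (β ^ i) m ∈ M0 := by
    refine h 0 1 hq.pos hq.one_lt (by simp) _ ?_
    rw [pow_zero, pow_one, one_mul]
    exact auto_norm_fixed _ hβ m
  have hall : ∏ j ∈ range q, N j ∈ M0 := Subgroup.prod_mem _ hN
  have hsplit : ∏ j ∈ range q, N j =
      m ^ q * ∏ i ∈ (range q).erase 0, (α ^ i) (∏ j ∈ range q, (β ^ j) m) := by
    show ∏ j ∈ range q, ∏ i ∈ range q, ((α * β ^ j) ^ i) m = _
    rw [prod_comm, ← mul_prod_erase (range q) _ (mem_range.mpr hq.pos)]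
    congr 1
    · simp
    · refine prod_congr rfl fun i hi => ?_
      obtain ⟨hi0, hiq⟩ := mem_erase.mp hi
      rw [map_prod, ← prod_range_mul_mod hq (c := i) (fun hd => by
        have := Nat.le_of_dvd (Nat.pos_of_ne_zero hi0) hd
        have := mem_range.mp hiq
        omega) (fun j => (α ^ i) ((β ^ j) m))]
      refine prod_congr rfl fun j _ => ?_
      rw [(hc.pow_right j).mul_pow, MulAut.mul_apply, ← pow_mul]
      congr 2
      rw [mul_comm j i]
      exact pow_eq_pow_mod _ hβ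
  rw [hsplit] at hall
  exact (Subgroup.mul_mem_cancel_right _ (Subgroup.prod_mem _ fun i _ => hM0 i _ hP)).mp hall

theorem pow_mem_of_fixed_frobenius (ν β : MulAut M) (M0 : Subgroup M) {t q j : ℕ}
    (ht : t.Prime) (hq : q.Prime) (hν : ν ^ t = 1) (hβ : β ^ q = 1)
    (hconj : β * ν * β⁻¹ = ν ^ j) (hjq : j ^ q % t = 1) (hj : j % t ≠ 1)
    (hfν : ∀ x, ν x = x → x ∈ M0)
    (hfβ : ∀ a : ℕ, ∀ x, (ν ^ a * β * (ν ^ a)⁻¹) x = x → x ∈ M0)
    (m : M) : m ^ t ∈ M0 := by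
  haveI := Fact.mk ht
  haveI := Fact.mk hq
  let P : M → M := fun x => ∏ i ∈ range t, (ν ^ i) x
  have hPmem : ∀ x, P x ∈ M0 := fun x => hfν _ (auto_norm_fixed ν hν x)
  let N : ℕ → M := fun a => ∏ b ∈ range q, ((ν ^ a * β * (ν ^ a)⁻¹) ^ b) m
  have hall : ∏ a ∈ range t, N a ∈ M0 :=
    Subgroup.prod_mem _ fun a _ => hfβ a _ (auto_norm_fixed _ (by
      rw [conj_pow, hβ, mul_one, mul_inv_cancel]) m)
  have hconjb : ∀ b : ℕ, β ^ b * ν * (β ^ b)⁻¹ = ν ^ (j ^ b) := by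
    intro b
    induction b with
    | zero => simp
    | succ b ih =>
      calc β ^ (b + 1) * ν * (β ^ (b + 1))⁻¹ = β * (β ^ b * ν * (β ^ b)⁻¹) * β⁻¹ := by
            rw [pow_succ']; group
        _ = (β * ν * β⁻¹) ^ (j ^ b) := by rw [ih, conj_pow]
        _ = ν ^ (j ^ (b + 1)) := by rw [hconj, ← pow_mul, pow_succ']
  have hjZ : (j : ZMod t) ≠ 1 := by
    intro e
    apply hj
    have := (ZMod.natCast_eq_natCast_iff' j 1 t).mp (by simpa using e)
    rwa [Nat.mod_eq_of_lt ht.one_lt] at this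
  have hjq' : (j : ZMod t) ^ q = 1 := by
    rw [← Nat.cast_pow, ← ZMod.natCast_mod, hjq, Nat.cast_one]
  have hord : orderOf (j : ZMod t) = q := orderOf_eq_prime hjq' hjZ
  -- the exponent of `ν` after moving `ν ^ a` across `β ^ b`
  let c : ℕ → ℕ := fun b => 1 + (t - 1) * j ^ b
  have hterm : ∀ a b : ℕ, (ν ^ a * β * (ν ^ a)⁻¹) ^ b = ν ^ (c b * a % t) * β ^ b := by
    intro a b
    rw [conj_pow, mul_assoc]
    have h1 : β ^ b * (ν ^ a)⁻¹ = (ν ^ (j ^ b * a))⁻¹ * β ^ b := by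
      rw [eq_inv_mul_iff_mul_eq, pow_mul, ← hconjb, conj_pow]
      group
    rw [h1, ← mul_assoc]
    congr 1
    rw [mul_inv_eq_iff_eq_mul, ← pow_add]
    rw [pow_eq_pow_mod _ hν, pow_eq_pow_mod (c b * a % t + j ^ b * a) hν]
    congr 1
    apply (ZMod.natCast_eq_natCast_iff' _ _ t).mp
    have e : ((t - 1 : ℕ) : ZMod t) = -1 := by
      rw [Nat.cast_sub ht.pos, ZMod.natCast_self, Nat.cast_one, zero_sub]
    simp only [c, Nat.cast_add, ZMod.natCast_mod, Nat.cast_mul, Nat.cast_pow, Nat.cast_one, e]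
    ring
  have hsplit : ∏ a ∈ range t, N a = m ^ t * ∏ b ∈ (range q).erase 0, P ((β ^ b) m) := by
    show ∏ a ∈ range t, ∏ b ∈ range q, ((ν ^ a * β * (ν ^ a)⁻¹) ^ b) m = _
    rw [prod_comm, ← mul_prod_erase (range q) _ (mem_range.mpr hq.pos)]
    congr 1
    · simp
    · refine prod_congr rfl fun b hb => ?_
      obtain ⟨hb0, hbq⟩ := mem_erase.mp hb
      show _ = ∏ i ∈ range t, (ν ^ i) ((β ^ b) m)
      rw [← prod_range_mul_mod ht (c := c b) ?_ (fun i => (ν ^ i) ((β ^ b) m))]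
      · exact prod_congr rfl fun a _ => by rw [hterm, MulAut.mul_apply]
      · intro hd
        rw [← ZMod.natCast_eq_zero_iff] at hd
        have e : ((t - 1 : ℕ) : ZMod t) = -1 := by
          rw [Nat.cast_sub ht.pos, ZMod.natCast_self, Nat.cast_one, zero_sub]
        simp only [c, Nat.cast_add, Nat.cast_mul, Nat.cast_pow, Nat.cast_one, e] at hd
        have h1 : (j : ZMod t) ^ b = 1 := by linear_combination -hd
        have h2 := orderOf_dvd_of_pow_eq_one h1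
        rw [hord] at h2
        exact absurd (Nat.le_of_dvd (Nat.pos_of_ne_zero hb0) h2) (by simpa using hbq)
  rw [hsplit] at hall
  exact (Subgroup.mul_mem_cancel_right _ (Subgroup.prod_mem _ fun b _ => hPmem _)).mp hall

end Cfsg.Agent.ConjRank
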