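import Cfsg.Agent.FG78.IndexLemmas
import Cfsg.Prelude.Def_Transfer

/-!
An averaging argument: a prime `p` with `N(P) ≠ C(P)` divides the class size of at least half of
the elements of the group.
-/

set_option autoImplicit false

open Cfsg.Agent.FG78 Finset

namespace Cfsg.Agent.ConjRank

universe u

variable {G : Type u} [Group G] [Finite G]

theorem card_not_dvd_le {p : ℕ} [Fact p.Prime] (h : ¬ Cfsg.HasNormalPComplement p G) :
    2 * Nat.card {x : G // ¬ p ∣ (Subgroup.centralizer ({x} : Set G)).index} ≤ Nat.card G := by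
  classical
  obtain ⟨P⟩ := (inferInstance : Nonempty (Sylow p G))
  set C := Subgroup.centralizer ((P : Subgroup G) : Set G) with hC
  set N := Subgroup.normalizer ((P : Subgroup G) : Set G) with hN
  have hCN : C ≤ N := fun x hx => by
    rw [hN, Subgroup.mem_normalizer_iff]
    intro y
    refine ⟨fun hy => ?_, fun hy => ?_⟩
    · rwa [← Subgroup.mem_centralizer_iff.mp hx y hy, mul_inv_cancel_right]
    · have h1 := Subgroup.mem_centralizer_iff.mp (inv_mem hx) _ hy
      rw [show x⁻¹ * (x * y * x⁻¹) = y * x⁻¹ by group, mul_left_inj] at h1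
      rwa [← h1]
  have hne : C.relIndex N ≠ 1 := fun e => h
    ⟨P, _, MonoidHom.normal_ker _,
      MonoidHom.ker_transferSylow_isComplement' P (Subgroup.relIndex_eq_one.mp e)⟩
  let φ : (G ⧸ N) × C → G := fun y => y.1.out * y.2 * y.1.out⁻¹
  have hsub : ∀ x : {x : G // ¬ p ∣ (Subgroup.centralizer ({x} : Set G)).index},
      ∃ y, φ y = x.1 := by
    rintro ⟨x, hx⟩
    obtain ⟨c, hc⟩ := exists_conj_mem_centralizer_sylow P hx
    set o := (QuotientGroup.mk c⁻¹ : G ⧸ N).out with ho
    have hn : c * o ∈ N := by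
      have h1 : (QuotientGroup.mk c⁻¹ : G ⧸ N) = QuotientGroup.mk o := by
        rw [ho, QuotientGroup.out_eq']
      simpa using QuotientGroup.eq.mp h1
    refine ⟨⟨QuotientGroup.mk c⁻¹, ⟨o⁻¹ * x * o, ?_⟩⟩, by show o * (o⁻¹ * x * o) * o⁻¹ = x; group⟩
    rw [hC, Subgroup.mem_centralizer_iff]
    intro y hy
    have hy' : c * o * y * (c * o)⁻¹ ∈ (P : Subgroup G) :=
      (Subgroup.mem_normalizer_iff.mp hn y).mp hy
    have h2 : Commute (c * o * y * (c * o)⁻¹) (c * x * c⁻¹) :=
      Subgroup.mem_centralizer_iff.mp hc _ hy'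
    have h3 := h2.map (MulAut.conj (c * o)⁻¹).toMonoidHom
    simpa [mul_assoc] using h3.eq
  choose ψ hψ using hsub
  have hinj : Function.Injective ψ := fun a b e => Subtype.ext (by rw [← hψ a, ← hψ b, e])
  have h1 := Nat.card_le_card_of_injective ψ hinj
  rw [Nat.card_prod, ← Subgroup.index_eq_card] at h1
  have h2 := Subgroup.relIndex_mul_relIndex (⊥ : Subgroup G) C N bot_le hCN
  rw [Subgroup.relIndex_bot_left, Subgroup.relIndex_bot_left] at h2
  have h3 : 2 ≤ C.relIndex N := by
    have : C.relIndex N ≠ 0 := Subgroup.index_ne_zero_of_finite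
    omega
  calc 2 * Nat.card {x : G // ¬ p ∣ (Subgroup.centralizer ({x} : Set G)).index}
      ≤ C.relIndex N * (N.index * Nat.card C) := Nat.mul_le_mul h3 h1
    _ = Nat.card C * C.relIndex N * N.index := by ring
    _ = Nat.card G := by rw [h2, Subgroup.card_mul_index]

theorem card_vertices_le {σ : ℕ}
    (hσ : ∀ x : G, ((Subgroup.centralizer ({x} : Set G)).index).primeFactors.card ≤ σ)
    (hnil : ∀ p q : ℕ, p.Prime → q.Prime → p ∣ Nat.card G → q ∣ Nat.card G →
      Cfsg.HasNormalPComplement p G → Cfsg.HasNormalPComplement q G → p = q) :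
    Nat.card {p : ℕ | p.Prime ∧ ∃ x : G, p ∣ (Subgroup.centralizer ({x} : Set G)).index} ≤
      2 * σ := by
  classical
  haveI := Fintype.ofFinite G
  let ix : G → ℕ := fun x => (Subgroup.centralizer ({x} : Set G)).index
  have hix0 : ∀ x, ix x ≠ 0 := fun x => Subgroup.index_ne_zero_of_finite
  set V := (univ : Finset G).biUnion fun x => (ix x).primeFactors with hV
  have hVset : {p : ℕ | p.Prime ∧ ∃ x : G, p ∣ ix x} = (V : Set ℕ) := by
    ext p
    simp only [Set.mem_ofPred_eq, hV, coe_biUnion, Set.mem_iUnion, mem_coe, mem_univ,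
      Nat.mem_primeFactors, exists_prop, true_and]
    exact ⟨fun ⟨hp, x, hx⟩ => ⟨x, hp, hx, hix0 x⟩, fun ⟨x, hp, hx, _⟩ => ⟨hp, x, hx⟩⟩
  show Nat.card {p : ℕ | p.Prime ∧ ∃ x : G, p ∣ ix x} ≤ 2 * σ
  rw [hVset, Nat.card_coe_set_eq, Set.ncard_coe_finset]
  -- double count
  have hmemV : ∀ p ∈ V, p.Prime ∧ p ∣ Nat.card G ∧ ∃ x, p ∣ ix x := by
    intro p hp
    obtain ⟨x, -, hx⟩ := mem_biUnion.mp hp
    obtain ⟨hpp, hd, -⟩ := Nat.mem_primeFactors.mp hx
    exact ⟨hpp, hd.trans (Subgroup.index_dvd_card _), x, hd⟩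
  have hswap : ∑ p ∈ V, (univ.filter fun x : G => p ∣ ix x).card ≤ σ * Nat.card G := by
    calc ∑ p ∈ V, (univ.filter fun x : G => p ∣ ix x).card
        = ∑ x : G, (V.filter fun p => p ∣ ix x).card := by
          simp only [card_filter]; exact sum_comm
      _ ≤ ∑ _x : G, σ := sum_le_sum fun x _ => le_trans (card_le_card fun p hp => by
          obtain ⟨hpV, hpd⟩ := mem_filter.mp hp
          exact Nat.mem_primeFactors.mpr ⟨(hmemV p hpV).1, hpd, hix0 x⟩) (hσ x)
      _ = σ * Nat.card G := by simp [Nat.card_eq_fintype_card, mul_comm]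
  have hhalf : ∀ p ∈ V, ¬ Cfsg.HasNormalPComplement p G →
      Nat.card G ≤ 2 * (univ.filter fun x : G => p ∣ ix x).card := by
    intro p hp hno
    haveI := Fact.mk (hmemV p hp).1
    have h1 := card_not_dvd_le hno
    have h2 : Nat.card {x : G // ¬ p ∣ ix x} = (univ.filter fun x : G => ¬ p ∣ ix x).card := by
      rw [Nat.card_eq_fintype_card, Fintype.card_subtype]
    change 2 * Nat.card {x : G // ¬ p ∣ ix x} ≤ _ at h1
    have h3 := card_filter_add_card_filter_not (s := (univ : Finset G)) (fun x : G => p ∣ ix x)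
    rw [card_univ, ← Nat.card_eq_fintype_card] at h3
    omega
  have hsplit := (sum_filter_add_sum_filter_not V (fun p => Cfsg.HasNormalPComplement p G)
    fun p => (univ.filter fun x : G => p ∣ ix x).card)
  have h4 : (V.filter fun p => ¬ Cfsg.HasNormalPComplement p G).card * Nat.card G ≤
      2 * ∑ p ∈ V.filter (fun p => ¬ Cfsg.HasNormalPComplement p G),
        (univ.filter fun x : G => p ∣ ix x).card := by
    rw [mul_sum]
    refine le_trans (le_of_eq ?_) (card_nsmul_le_sum _ _ _ fun p hp =>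
      hhalf p (mem_filter.mp hp).1 (mem_filter.mp hp).2)
    rw [smul_eq_mul]
  have h5 : (V.filter fun p => Cfsg.HasNormalPComplement p G).card ≤ 1 :=
    card_le_one.mpr fun p hp q hq => by
      obtain ⟨hp', hpn⟩ := mem_filter.mp hp
      obtain ⟨hq', hqn⟩ := mem_filter.mp hq
      exact hnil p q (hmemV p hp').1 (hmemV q hq').1 (hmemV p hp').2.1 (hmemV q hq').2.1 hpn hqn
  have h6 : (V.filter fun p => Cfsg.HasNormalPComplement p G).card ≤
      ∑ p ∈ V.filter (fun p => Cfsg.HasNormalPComplement p G),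
        (univ.filter fun x : G => p ∣ ix x).card := by
    refine le_trans (le_of_eq ?_) (card_nsmul_le_sum _ _ 1 fun p hp => ?_)
    · simp
    · obtain ⟨x, hx⟩ := (hmemV p (mem_filter.mp hp).1).2.2
      exact card_pos.mpr ⟨x, by simp [hx]⟩
  have hk := card_filter_add_card_filter_not (s := V) (fun p => Cfsg.HasNormalPComplement p G)
  have hG := Nat.card_pos (α := G)
  by_contra hlt
  push Not at hlt
  have hm := Nat.mul_le_mul_right (Nat.card G)
    (show 2 * σ + 1 ≤ (V.filter fun p => Cfsg.HasNormalPComplement p G).card +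
      (V.filter fun p => ¬ Cfsg.HasNormalPComplement p G).card by omega)
  rw [add_mul, add_mul, one_mul, mul_assoc] at hm
  rcases Nat.le_one_iff_eq_zero_or_eq_one.mp h5 with e | e <;> rw [e] at hm h6 <;> omega

end Cfsg.Agent.ConjRank
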