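import Mathlib
import Cfsg.Agent.FG78.IndexLemmas
import Cfsg.Agent.FG78.TwoSizes
import Cfsg.Agent.Lib.CharCore.Burnside
import Cfsg.Agent.Lib.Thompson.Cores
import Cfsg.Agent.Lib.Involution.BaerSuzuki
import Cfsg.Agent.Lib.Involution.Dihedral
import Cfsg.Agent.PF14.Compose

/-!
Groups of conjugate rank two: elementary facts on commutators with central value, primes of
`G / Z(G)`, and real elements in non-solvable groups.
-/

set_option autoImplicit false
set_option maxHeartbeats 400000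

open scoped commutatorElement
open Cfsg.Agent.FG78

namespace Cfsg.Agent.ConjRank

universe u

variable {G : Type u} [Group G]

local notation "Z" => Subgroup.center G

theorem central_comm {c : G} (hc : c ∈ Z) (g : G) : g * c = c * g :=
  Subgroup.mem_center_iff.mp hc g

theorem conj_eq_comm_mul (g y : G) : g * y * g⁻¹ = ⁅g, y⁆ * y := by
  rw [commutatorElement_def]; group

theorem conj_pow_left {g y : G} (h : ⁅g, y⁆ ∈ Z) (m : ℕ) :
    g ^ m * y * (g ^ m)⁻¹ = ⁅g, y⁆ ^ m * y := by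
  induction m with
  | zero => simp
  | succ m ih =>
    calc g ^ (m + 1) * y * (g ^ (m + 1))⁻¹ = g * (g ^ m * y * (g ^ m)⁻¹) * g⁻¹ := by
          rw [pow_succ']; group
      _ = g * (⁅g, y⁆ ^ m * y) * g⁻¹ := by rw [ih]
      _ = ⁅g, y⁆ ^ m * (g * y * g⁻¹) := by
          rw [← mul_assoc g, central_comm (pow_mem h m) g]; group
      _ = ⁅g, y⁆ ^ (m + 1) * y := by rw [conj_eq_comm_mul, ← mul_assoc, pow_succ]

theorem conj_pow_right {g y : G} (h : ⁅g, y⁆ ∈ Z) (m : ℕ) :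
    g * y ^ m * g⁻¹ = ⁅g, y⁆ ^ m * y ^ m := by
  rw [← conj_pow, conj_eq_comm_mul]
  exact Commute.mul_pow (central_comm h y).symm m

theorem comm_pow_left {g y : G} {n : ℕ} (h : ⁅g, y⁆ ∈ Z) (hg : g ^ n = 1) : ⁅g, y⁆ ^ n = 1 := by
  have := conj_pow_left h n
  rw [hg, one_mul, inv_one, mul_one] at this
  exact mul_eq_right.mp this.symm

theorem comm_pow_right {g y : G} {n : ℕ} (h : ⁅g, y⁆ ∈ Z) (hy : y ^ n = 1) : ⁅g, y⁆ ^ n = 1 := by
  have := conj_pow_right h n
  rw [hy, mul_one, mul_inv_cancel, mul_one] at this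
  exact this.symm

theorem commute_of_coprime {g y : G} (h : ⁅g, y⁆ ∈ Z)
    (hco : (orderOf g).Coprime (orderOf y)) : Commute g y := by
  refine commutatorElement_eq_one_iff_commute.mp (orderOf_eq_one_iff.mp ?_)
  exact Nat.eq_one_of_dvd_coprimes hco
    (orderOf_dvd_of_pow_eq_one (comm_pow_left h (pow_orderOf_eq_one g)))
    (orderOf_dvd_of_pow_eq_one (comm_pow_right h (pow_orderOf_eq_one y)))

theorem pow_commute_of_pow_central {g y : G} {q : ℕ} (h : ⁅g, y⁆ ∈ Z) (hy : y ^ q ∈ Z) :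
    Commute (g ^ q) y := by
  have h1 := conj_pow_right h q
  rw [central_comm hy g, mul_inv_cancel_right] at h1
  have h2 : ⁅g, y⁆ ^ q = 1 := mul_eq_right.mp h1.symm
  have h3 := conj_pow_left h q
  rw [h2, one_mul, mul_inv_eq_iff_eq_mul] at h3
  exact h3

/-- Elements commuting with `y` modulo the centre. -/
def stab (y : G) : Subgroup G where
  carrier := {g | ⁅g, y⁆ ∈ Z}
  one_mem' := by show ⁅(1 : G), y⁆ ∈ Z; rw [commutatorElement_one_left]; exact one_mem _
  mul_mem' := by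
    intro a b ha hb
    show ⁅a * b, y⁆ ∈ Z
    have : ⁅a * b, y⁆ = ⁅b, y⁆ * ⁅a, y⁆ := by
      rw [commutatorElement_def, show a * b * y * (a * b)⁻¹ = a * (b * y * b⁻¹) * a⁻¹ by group,
        conj_eq_comm_mul b, ← mul_assoc a, central_comm hb a,
        show ⁅b, y⁆ * a * y * a⁻¹ = ⁅b, y⁆ * (a * y * a⁻¹) by group, commutatorElement_def a]
      group
    rw [this]; exact mul_mem hb ha
  inv_mem' := by
    intro a ha
    show ⁅a⁻¹, y⁆ ∈ Z
    have h1 : a * y * a⁻¹ = ⁅a, y⁆ * y := conj_eq_comm_mul a y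
    have : ⁅a⁻¹, y⁆ = ⁅a, y⁆⁻¹ := by
      have h2 : a⁻¹ * y * a = ⁅a, y⁆⁻¹ * y := by
        have h3 : a⁻¹ * (⁅a, y⁆⁻¹ * (a * y * a⁻¹)) * a = a⁻¹ * y * a := by rw [h1]; group
        rw [← h3, ← mul_assoc, central_comm (inv_mem ha) a⁻¹]; group
      rw [commutatorElement_def, inv_inv, h2]; group
    rw [this]; exact inv_mem ha

theorem mem_stab {g y : G} : g ∈ stab y ↔ ⁅g, y⁆ ∈ Z := Iff.rfl

theorem commutator_mul_left {a b y : G} (hb : ⁅b, y⁆ ∈ Z) : ⁅a * b, y⁆ = ⁅b, y⁆ * ⁅a, y⁆ := by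
  rw [commutatorElement_def, show a * b * y * (a * b)⁻¹ = a * (b * y * b⁻¹) * a⁻¹ by group,
    conj_eq_comm_mul b, ← mul_assoc a, central_comm hb a,
    show ⁅b, y⁆ * a * y * a⁻¹ = ⁅b, y⁆ * (a * y * a⁻¹) by group, commutatorElement_def a]
  group

/-! ### Elements of prime power order -/

theorem coprime_orderOf {q t : ℕ} (hq : q.Prime) (ht : t.Prime) (hne : q ≠ t) {x y : G}
    (hx : IsPiElem {q} x) (hy : IsPiElem {t} y) : (orderOf x).Coprime (orderOf y) :=
  Nat.coprime_of_dvd fun k hk h1 h2 =>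
    hne ((Set.mem_singleton_iff.mp (hx k hk h1)).symm.trans (Set.mem_singleton_iff.mp (hy k hk h2)))

theorem commute_of_primes {q t : ℕ} (hq : q.Prime) (ht : t.Prime) (hne : q ≠ t) {x y : G}
    (hx : IsPiElem {q} x) (hy : IsPiElem {t} y) (h : ⁅x, y⁆ ∈ Z) : Commute x y :=
  commute_of_coprime h (coprime_orderOf hq ht hne hx hy)

theorem mem_center_of_forall {x : G} (h : ∀ g : G, Commute g x) : x ∈ Z :=
  Subgroup.mem_center_iff.mpr fun g => (h g).eq

theorem commute_of_mem_center {x : G} (hx : x ∈ Z) (g : G) : Commute g x :=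
  Subgroup.mem_center_iff.mp hx g

variable [Finite G]

theorem exists_pow_orderOf {q : ℕ} {x : G} (hx : IsPiElem {q} x) : ∃ k, x ^ q ^ k = 1 := by
  obtain ⟨k, hk⟩ := exists_pow_of_isPiElem_singleton hx
  exact ⟨k, by rw [← hk, pow_orderOf_eq_one]⟩

theorem isPiElem_of_pow {q k : ℕ} (hq : q.Prime) {x : G} (h : x ^ q ^ k = 1) : IsPiElem {q} x := by
  obtain ⟨j, -, hj⟩ := (Nat.dvd_prime_pow hq).mp (orderOf_dvd_of_pow_eq_one h)
  exact isPiElem_singleton_of_pow hq hj

theorem mem_center_of_coprime_pow {t q : ℕ} (ht : t.Prime) (hq : q.Prime) (hne : q ≠ t) {v : G}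
    (hv : IsPiElem {t} v) (h : v ^ q ∈ Z) : v ∈ Z := by
  obtain ⟨k, hk⟩ := exists_pow_of_isPiElem_singleton hv
  obtain ⟨m, hm⟩ := exists_pow_eq_self_of_coprime (n := q) (x := v)
    (hk ▸ ((Nat.coprime_primes hq ht).mpr hne).pow_right k)
  exact hm ▸ pow_mem h m

theorem exists_primary {x : G} (hx : x ∉ Z) :
    ∃ q : ℕ, q.Prime ∧ piPart {q} x ∉ Z ∧ IsPiElem {q} (piPart {q} x) ∧ q ∣ orderOf x := by
  obtain ⟨q, hq, h⟩ := TwoSizes.exists_part hx
  refine ⟨q, hq, h, isPiElem_piPart _ _, ?_⟩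
  by_contra hd
  apply h
  have : IsPiElem ({q}ᶜ : Set ℕ) x := by
    intro k hk hkd e
    exact hd (Set.mem_singleton_iff.mp e ▸ hkd)
  have e := piPart'_of_isPiElem this
  have e2 := piPart_mul_piPart' {q} x
  rw [e] at e2
  rw [mul_eq_right.mp e2]
  exact one_mem _

theorem exists_noncentral {q : ℕ} (hq : q.Prime) (hd : q ∣ Nat.card (G ⧸ Z)) :
    ∃ x : G, IsPiElem {q} x ∧ x ∉ Z := by
  haveI := Fact.mk hq
  obtain ⟨a, ha⟩ := exists_prime_orderOf_dvd_card' q hd
  obtain ⟨g, rfl⟩ := QuotientGroup.mk_surjective a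
  exact ⟨piPart {q} g, isPiElem_piPart _ _, TwoSizes.piPart_not_central (ha ▸ dvd_rfl)⟩

theorem dvd_card_quotient {q : ℕ} (hq : q.Prime) {x : G} (hx : IsPiElem {q} x) (hxZ : x ∉ Z) :
    q ∣ Nat.card (G ⧸ Z) := by
  obtain ⟨k, hk⟩ := exists_pow_orderOf hx
  have h1 : orderOf (QuotientGroup.mk x : G ⧸ Z) ∣ q ^ k :=
    orderOf_dvd_of_pow_eq_one (by rw [← QuotientGroup.mk_pow, hk, QuotientGroup.mk_one])
  obtain ⟨j, -, hj⟩ := (Nat.dvd_prime_pow hq).mp h1
  refine Dvd.dvd.trans ?_ (orderOf_dvd_natCard (QuotientGroup.mk x : G ⧸ Z))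
  rw [hj]
  rcases Nat.eq_zero_or_pos j with rfl | hj0
  · exact absurd ((QuotientGroup.eq_one_iff x).mp (orderOf_eq_one_iff.mp (by simpa using hj))) hxZ
  · exact dvd_pow_self q hj0.ne'

theorem isSolvable_of_quotient_center (h : Group.IsSolvable (G ⧸ Z)) : Group.IsSolvable G := by
  haveI := h
  haveI : IsMulCommutative (Subgroup.center G) :=
    ⟨⟨fun a b => Subtype.ext (Subgroup.mem_center_iff.mp b.2 a.1)⟩⟩
  haveI : Group.IsSolvable (Subgroup.center G) := Group.isSolvable_of_comm fun a b =>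
    Subtype.ext (Subgroup.mem_center_iff.mp b.2 a.1)
  exact Group.isSolvable_of_ker_le_range (Subgroup.center G).subtype (QuotientGroup.mk' Z)
    (by rw [QuotientGroup.ker_mk', Subgroup.range_subtype])

/-- A non-solvable group has at least three primes with noncentral elements. -/
theorem exists_third_prime (hG : ¬ Group.IsSolvable G) (a b : ℕ) :
    ∃ t : ℕ, t.Prime ∧ t ≠ a ∧ t ≠ b ∧ ∃ x : G, IsPiElem {t} x ∧ x ∉ Z := by
  by_contra hno
  push Not at hno
  apply hG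
  apply isSolvable_of_quotient_center
  have hn : Nat.card (G ⧸ Z) ≠ 0 := Nat.card_pos.ne'
  have hsub : ∀ t ∈ (Nat.card (G ⧸ Z)).primeFactors, t = a ∨ t = b := by
    intro t ht
    by_contra hne
    push Not at hne
    obtain ⟨x, hx, hxZ⟩ := exists_noncentral (Nat.prime_of_mem_primeFactors ht)
      (Nat.dvd_of_mem_primeFactors ht)
    exact hxZ (hno t (Nat.prime_of_mem_primeFactors ht) hne.1 hne.2 x hx)
  obtain ⟨p, q, hp, hq, hab⟩ : ∃ p q : ℕ, p.Prime ∧ q.Prime ∧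
      ∀ t ∈ (Nat.card (G ⧸ Z)).primeFactors, t = p ∨ t = q := by
    by_cases ha : a.Prime <;> by_cases hb : b.Prime
    · exact ⟨a, b, ha, hb, hsub⟩
    · exact ⟨a, a, ha, ha, fun t ht => (hsub t ht).imp id fun e =>
        absurd (e ▸ Nat.prime_of_mem_primeFactors ht) hb⟩
    · exact ⟨b, b, hb, hb, fun t ht => (hsub t ht).imp
        (fun e => absurd (e ▸ Nat.prime_of_mem_primeFactors ht) ha) id⟩
    · refine ⟨2, 2, Nat.prime_two, Nat.prime_two, fun t ht => ?_⟩
      rcases hsub t ht with e | e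
      · exact absurd (e ▸ Nat.prime_of_mem_primeFactors ht) ha
      · exact absurd (e ▸ Nat.prime_of_mem_primeFactors ht) hb
  have hfac := Nat.factorization_prod_pow_eq_self hn
  by_cases hpq : p = q
  · have hpow : ∃ k, Nat.card (G ⧸ Z) = p ^ k :=
      ⟨_, Nat.eq_prime_pow_of_unique_prime_dvd hn fun {d} hd hdd => by
        rcases hab d (Nat.mem_primeFactors.mpr ⟨hd, hdd, hn⟩) with e | e
        · exact e
        · exact e.trans hpq.symm⟩
    obtain ⟨k, hk⟩ := hpow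
    exact CharCore.isSolvable_of_card_eq_prime_pow_mul hp hq _ (G ⧸ Z) k 0 rfl (by simpa using hk)
  · refine CharCore.isSolvable_of_card_eq_prime_pow_mul hp hq _ (G ⧸ Z)
      ((Nat.card (G ⧸ Z)).factorization p) ((Nat.card (G ⧸ Z)).factorization q) rfl ?_
    conv_lhs => rw [← hfac]
    rw [Finsupp.prod, Finset.prod_subset (s₂ := {p, q}) ?_ ?_, Finset.prod_pair hpq]
    · intro t ht
      rcases hab t ht with e | e <;> simp [e]
    · intro t _ ht
      rw [Finsupp.notMem_support_iff.mp ht, pow_zero]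

/-! ### Real elements -/

theorem isPGroup_two_closure_pair {x y : G} (hx : orderOf x = 2) (hy : orderOf y = 2)
    (h : ∀ q : ℕ, q.Prime → q ∣ orderOf (x * y) → q = 2) :
    IsPGroup 2 (Subgroup.closure ({x, y} : Set G)) := by
  obtain ⟨e⟩ := Involution.closure_pair_equiv_dihedral hx hy
  obtain ⟨k, hk⟩ : ∃ k, orderOf (x * y) = 2 ^ k :=
    ⟨_, Nat.eq_prime_pow_of_unique_prime_dvd (orderOf_pos _).ne' fun {q} hq hd => h q hq hd⟩
  refine IsPGroup.of_card (n := k + 1) ?_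
  rw [Nat.card_congr e.toEquiv, DihedralGroup.nat_card, hk, pow_succ']

theorem exists_real (H : Type u) [Group H] [Finite H] (hH : ¬ Group.IsSolvable H) :
    ∃ (q : ℕ) (z w : H), q.Prime ∧ q ≠ 2 ∧ orderOf z = q ∧ IsPiElem {2} w ∧
      w * z * w⁻¹ = z⁻¹ := by
  classical
  haveI : Fact (Nat.Prime 2) := ⟨Nat.prime_two⟩
  set N := Cfsg.pCore 2 H with hN
  have hN2 : IsPGroup 2 N := Thompson.isPGroup_pCore
  have hbar : ¬ Group.IsSolvable (H ⧸ N) := by
    intro hs
    haveI : Group.IsSolvable N := by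
      haveI := hN2.isNilpotent
      infer_instance
    exact hH (Group.isSolvable_of_ker_le_range N.subtype (QuotientGroup.mk' N)
      (by rw [QuotientGroup.ker_mk', Subgroup.range_subtype]))
  have hev : 2 ∣ Nat.card (H ⧸ N) := by
    by_contra hd
    exact hbar (Cfsg.Agent.PF14.feitThompson _ (Nat.odd_iff.mpr (by omega)))
  obtain ⟨t, ht⟩ := exists_prime_orderOf_dvd_card' 2 hev
  obtain ⟨g, hg⟩ : ∃ g, ¬ IsPGroup 2 (Subgroup.closure ({t, g * t * g⁻¹} : Set (H ⧸ N))) := by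
    by_contra hall
    push Not at hall
    obtain ⟨M, hM, hM2, htM⟩ := Involution.baerSuzuki t hall
    have : t ∈ Cfsg.pCore 2 (H ⧸ N) := Thompson.le_pCore hM hM2 htM
    have e : Cfsg.pCore 2 (H ⧸ N) = ⊥ := Thompson.pCore_quotient_pCore
    rw [e, Subgroup.mem_bot] at this
    rw [this, orderOf_one] at ht
    omega
  have hs : orderOf (g * t * g⁻¹) = 2 := by
    exact (orderOf_injective (MulAut.conj g).toMonoidHom (MulAut.conj g).injective t).trans ht
  obtain ⟨q, hq, hqd, hq2⟩ : ∃ q : ℕ, q.Prime ∧ q ∣ orderOf (t * (g * t * g⁻¹)) ∧ q ≠ 2 := by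
    by_contra hno
    push Not at hno
    exact hg (isPGroup_two_closure_pair ht hs hno)
  set a := t * (g * t * g⁻¹) with ha
  set z₀ := a ^ (orderOf a / q) with hz₀
  have hz₀o : orderOf z₀ = q :=
    orderOf_pow_orderOf_div (orderOf_pos a).ne' hqd
  have hinv : t * z₀ * t⁻¹ = z₀⁻¹ := by
    rw [hz₀, ← conj_pow, Involution.inverts_mul (Involution.mul_self_of_orderOf ht)
      (Involution.mul_self_of_orderOf hs), inv_pow]
  haveI := Fact.mk hq
  -- lifting
  obtain ⟨z₁, hz₁⟩ := QuotientGroup.mk'_surjective N z₀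
  obtain ⟨w₁, hw₁⟩ := QuotientGroup.mk'_surjective N t
  set z := piPart {q} z₁
  have hzim : QuotientGroup.mk' N z = z₀ := by
    conv_rhs => rw [← hz₁, ← piPart_mul_piPart' {q} z₁, map_mul]
    rw [map_piPart'_eq_one (QuotientGroup.mk' N) (hz₁ ▸ isPiElem_singleton_of_pow hq
      (hz₀o.trans (pow_one q).symm)), mul_one]
  have hzo : orderOf z = q := by
    refine orderOf_eq_prime ?_ fun e => ?_
    · have h1 : z ^ q ∈ N := by
        rw [← QuotientGroup.ker_mk' N, MonoidHom.mem_ker, map_pow, hzim, ← hz₀o,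
          pow_orderOf_eq_one]
      obtain ⟨i, hi⟩ := hN2 ⟨z ^ q, h1⟩
      have hi' : (z ^ q) ^ 2 ^ i = 1 := congrArg Subtype.val hi
      exact ((isPiElem_piPart {q} z₁).pow q).eq_one (π := ({q} : Set ℕ))
        ((isPiElem_of_pow Nat.prime_two hi').mono (by
          intro x hx e
          exact hq2 ((Set.mem_singleton_iff.mp e).symm.trans (Set.mem_singleton_iff.mp hx))))
    · rw [e, map_one] at hzim
      rw [← hzim, orderOf_one] at hz₀o
      exact hq.ne_one hz₀o.symm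
  set w₂ := piPart {2} w₁
  have hwim : QuotientGroup.mk' N w₂ = t := by
    conv_rhs => rw [← hw₁, ← piPart_mul_piPart' {2} w₁, map_mul]
    rw [map_piPart'_eq_one (QuotientGroup.mk' N) (hw₁ ▸ isPiElem_singleton_of_pow Nat.prime_two
      (ht.trans (pow_one 2).symm)), mul_one]
  -- conjugating into ⟨z⟩
  set L := (Subgroup.zpowers z₀).comap (QuotientGroup.mk' N) with hL
  have hzL : z ∈ L := by
    rw [hL, Subgroup.mem_comap, hzim]; exact Subgroup.mem_zpowers z₀
  have hzL' : w₂ * z * w₂⁻¹ ∈ L := by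
    rw [hL, Subgroup.mem_comap, map_mul, map_mul, map_inv, hzim, hwim, hinv]
    exact inv_mem (Subgroup.mem_zpowers z₀)
  have hLc : Nat.card L = Nat.card N * q := by
    have h1 := Subgroup.card_mul_index (N.subgroupOf L)
    rw [Nat.card_congr (Subgroup.subgroupOfEquivOfLe (show N ≤ L from fun x hx => by
      rw [hL, Subgroup.mem_comap, (QuotientGroup.eq_one_iff x).mpr hx |> fun h =>
        (show QuotientGroup.mk' N x = 1 from h)]
      exact one_mem _)).toEquiv] at h1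
    rw [← h1]
    congr 1
    rw [← hz₀o, ← Nat.card_zpowers]
    have h2 := Subgroup.index_ker ((QuotientGroup.mk' N).comp L.subtype)
    rw [← MonoidHom.comap_ker, QuotientGroup.ker_mk', MonoidHom.range_comp,
      Subgroup.range_subtype, hL, Subgroup.map_comap_eq_self_of_surjective
      (QuotientGroup.mk'_surjective N)] at h2
    exact h2
  obtain ⟨b, hb⟩ := hN2.exists_card_eq
  have hfac : (Nat.card L).factorization q = 1 := by
    rw [hLc, hb, Nat.factorization_mul (pow_ne_zero _ (by norm_num)) hq.ne_zero,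
      Nat.factorization_pow, Finsupp.add_apply, Finsupp.smul_apply, hq.factorization_self,
      Nat.Prime.factorization Nat.prime_two, Finsupp.single_apply, if_neg (Ne.symm hq2)]
    simp
  let P : Sylow q L := Sylow.ofCard (Subgroup.zpowers (⟨z, hzL⟩ : L))
    (by rw [Nat.card_zpowers, Subgroup.orderOf_mk, hzo, hfac, pow_one])
  let P' : Sylow q L := Sylow.ofCard (Subgroup.zpowers (⟨w₂ * z * w₂⁻¹, hzL'⟩ : L))
    (by rw [Nat.card_zpowers, Subgroup.orderOf_mk, hfac, pow_one,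
      ← hzo]
        exact orderOf_injective (MulAut.conj w₂).toMonoidHom (MulAut.conj w₂).injective z)
  obtain ⟨n, hn⟩ := MulAction.exists_smul_eq L P' P
  have hmem : (n : H) * (w₂ * z * w₂⁻¹) * (n : H)⁻¹ ∈ Subgroup.zpowers z := by
    have h1 : MulAut.conj n • (⟨w₂ * z * w₂⁻¹, hzL'⟩ : L) ∈ ((n • P' : Sylow q L) : Subgroup L) :=
      Subgroup.smul_mem_pointwise_smul _ _ _ (Subgroup.mem_zpowers _)
    rw [hn] at h1
    obtain ⟨i, hi⟩ := h1
    exact ⟨i, by simpa using congrArg Subtype.val hi⟩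
  obtain ⟨i, hi⟩ := hmem
  have hnim : QuotientGroup.mk' N (n : H) ∈ Subgroup.zpowers z₀ := n.2
  have himg : z₀ ^ i = z₀⁻¹ := by
    have h1 := congrArg (QuotientGroup.mk' N) hi
    rw [map_zpow, hzim, map_mul, map_mul, map_mul, map_mul, map_inv, map_inv, hzim, hwim, hinv]
      at h1
    obtain ⟨j, hj⟩ := hnim
    rw [h1, ← hj]
    group
  have hzi : z ^ i = z⁻¹ := by
    rw [← zpow_neg_one] at himg ⊢
    rw [zpow_eq_zpow_iff_modEq] at himg ⊢
    rwa [hz₀o, ← hzo] at himg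
  set w := (n : H) * w₂ with hwdef
  have hwz : w * z * w⁻¹ = z⁻¹ := by
    rw [← hzi, show z ^ i = (n : H) * (w₂ * z * w₂⁻¹) * (n : H)⁻¹ from hi, hwdef]; group
  refine ⟨q, z, piPart {2} w, hq, hq2, hzo, isPiElem_piPart _ _, ?_⟩
  -- the odd part of `w` centralizes `z`
  have hw2 : Commute (w ^ 2) z := by
    have : w ^ 2 * z * (w ^ 2)⁻¹ = z := by
      rw [sq, show w * w * z * (w * w)⁻¹ = w * (w * z * w⁻¹) * w⁻¹ by group, hwz,
        show w * z⁻¹ * w⁻¹ = (w * z * w⁻¹)⁻¹ by group, hwz, inv_inv]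
    exact mul_inv_eq_iff_eq_mul.mp this
  have hc : Commute (piPart' {2} w) z := by
    obtain ⟨j, hj⟩ := exists_piPart'_eq_pow {2} w
    have hodd : (2 : ℕ).Coprime (orderOf (piPart' {2} w)) := by
      refine (Nat.prime_two.coprime_iff_not_dvd).mpr fun hd => ?_
      exact isPiElem_piPart' {2} w 2 Nat.prime_two hd rfl
    obtain ⟨m, hm⟩ := exists_pow_eq_self_of_coprime hodd
    rw [← hm, hj, ← pow_mul w j 2, mul_comm j 2, pow_mul, ← pow_mul (w ^ 2)]
    exact hw2.pow_left _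
  calc piPart {2} w * z * (piPart {2} w)⁻¹
      = piPart {2} w * (piPart' {2} w * z * (piPart' {2} w)⁻¹) * (piPart {2} w)⁻¹ := by
        rw [hc.eq, mul_inv_cancel_right]
    _ = (piPart {2} w * piPart' {2} w) * z * (piPart {2} w * piPart' {2} w)⁻¹ := by group
    _ = z⁻¹ := by rw [piPart_mul_piPart', hwz]

/-- A real element modulo the centre. -/
theorem exists_real_mod_center (hG : ¬ Group.IsSolvable G) :
    ∃ (q : ℕ) (z w : G), q.Prime ∧ q ≠ 2 ∧ IsPiElem {q} z ∧ z ∉ Z ∧ IsPiElem {2} w ∧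
      w * z * w⁻¹ * z ∈ Z ∧ ¬ Commute w z ∧ Commute (w ^ 2) z := by
  obtain ⟨q, z₀, w₀, hq, hq2, hz₀, hw₀, h⟩ :=
    exists_real (G ⧸ Z) fun h => hG (isSolvable_of_quotient_center h)
  obtain ⟨z₁, hz₁⟩ := QuotientGroup.mk'_surjective Z z₀
  obtain ⟨w₁, hw₁⟩ := QuotientGroup.mk'_surjective Z w₀
  set z := piPart {q} z₁
  set w := piPart {2} w₁
  have hzim : QuotientGroup.mk' Z z = z₀ := by
    conv_rhs => rw [← hz₁, ← piPart_mul_piPart' {q} z₁, map_mul]
    rw [map_piPart'_eq_one (QuotientGroup.mk' Z) (hz₁ ▸ isPiElem_singleton_of_pow hq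
      (hz₀.trans (pow_one q).symm)), mul_one]
  have hwim : QuotientGroup.mk' Z w = w₀ := by
    conv_rhs => rw [← hw₁, ← piPart_mul_piPart' {2} w₁, map_mul]
    rw [map_piPart'_eq_one (QuotientGroup.mk' Z) (hw₁ ▸ hw₀), mul_one]
  have hc : w * z * w⁻¹ * z ∈ Z := by
    rw [← QuotientGroup.ker_mk' Z, MonoidHom.mem_ker, map_mul, map_mul, map_mul, map_inv, hzim,
      hwim, h, inv_mul_cancel]
  have hzZ : z ∉ Z := by
    intro hz
    rw [← QuotientGroup.ker_mk' Z, MonoidHom.mem_ker, hzim] at hz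
    rw [hz, orderOf_one] at hz₀
    exact hq.ne_one hz₀.symm
  refine ⟨q, z, w, hq, hq2, isPiElem_piPart _ _, hzZ, isPiElem_piPart _ _, hc, ?_, ?_⟩
  · intro hcw
    rw [hcw.eq, mul_inv_cancel_right, ← sq] at hc
    exact hzZ (mem_center_of_coprime_pow hq Nat.prime_two (Ne.symm hq2) (isPiElem_piPart _ _) hc)
  · set c := w * z * w⁻¹ * z with hcdef
    have h1 : w * z * w⁻¹ = c * z⁻¹ := by rw [hcdef]; group
    have h2 : w ^ 2 * z * (w ^ 2)⁻¹ = z := by
      rw [sq, show w * w * z * (w * w)⁻¹ = w * (w * z * w⁻¹) * w⁻¹ by group, h1,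
        show w * (c * z⁻¹) * w⁻¹ = (w * c) * z⁻¹ * w⁻¹ by group, central_comm hc w,
        show c * w * z⁻¹ * w⁻¹ = c * (w * z * w⁻¹)⁻¹ by group, h1]
      rw [mul_inv_rev, inv_inv, ← mul_assoc, ← central_comm hc z, mul_inv_cancel_right]
    exact mul_inv_eq_iff_eq_mul.mp h2

end Cfsg.Agent.ConjRank
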