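import Cfsg.Agent.ConjRank.Basic
import Cfsg.Agent.ConjRank.Auto

/-!
Systems of abelian trivial intersection components: abelian subgroups `A` of `π`-elements such that
every noncentral element of `A` has the same centralizer as `A`.
-/

set_option autoImplicit false
set_option maxHeartbeats 400000

open scoped commutatorElement
open Cfsg.Agent.FG78

namespace Cfsg.Agent.ConjRank

universe u

variable {G : Type u} [Group G]

local notation "Z" => Subgroup.center G

/-- Conjugate of a subgroup. -/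
def cj (g : G) (A : Subgroup G) : Subgroup G := A.map (MulAut.conj g).toMonoidHom

theorem mem_cj {g x : G} {A : Subgroup G} : x ∈ cj g A ↔ g⁻¹ * x * g ∈ A := by
  constructor
  · rintro ⟨a, ha, rfl⟩
    simpa [mul_assoc] using ha
  · intro h
    exact ⟨g⁻¹ * x * g, h, by simp [mul_assoc]⟩

theorem conj_mem_cj {g x : G} {A : Subgroup G} (h : x ∈ A) : g * x * g⁻¹ ∈ cj g A :=
  ⟨x, h, rfl⟩

theorem card_cj (g : G) (A : Subgroup G) : Nat.card (cj g A) = Nat.card A :=
  (Nat.card_congr (A.equivMapOfInjective _ (MulAut.conj g).injective).toEquiv).symm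

theorem cj_mul (g k : G) (A : Subgroup G) : cj (g * k) A = cj g (cj k A) := by
  ext x; simp [mem_cj, mul_assoc]

theorem mem_normalizer_of_cj {g : G} {A : Subgroup G} (h : cj g A = A) :
    g ∈ Subgroup.normalizer (A : Set G) := by
  rw [Subgroup.mem_normalizer_iff]
  intro x
  conv_rhs => rw [← h]
  exact ⟨conj_mem_cj, fun hx => by simpa [mem_cj, mul_assoc] using hx⟩

theorem cj_eq_of_mem_normalizer {g : G} {A : Subgroup G}
    (h : g ∈ Subgroup.normalizer (A : Set G)) : cj g A = A := by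
  ext x
  rw [mem_cj]
  have := Subgroup.mem_normalizer_iff.mp h (g⁻¹ * x * g)
  simpa [mul_assoc] using this

theorem conj_not_central {g x : G} (hx : x ∉ Z) : g * x * g⁻¹ ∉ Z := fun h =>
  hx (by simpa [mul_assoc] using (inferInstance : (Z).Normal).conj_mem _ h g⁻¹)

theorem relIndex_mul_card {H K : Subgroup G} (h : H ≤ K) :
    H.relIndex K * Nat.card H = Nat.card K := by
  have := Subgroup.relIndex_mul_relIndex (⊥ : Subgroup G) H K bot_le h
  rwa [Subgroup.relIndex_bot_left, Subgroup.relIndex_bot_left, mul_comm] at this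

theorem relIndex_ne [Finite G] (H K : Subgroup G) : H.relIndex K ≠ 0 :=
  Subgroup.index_ne_zero_of_finite

/-- A system of components. -/
structure Fam (G : Type u) [Group G] where
  π : Set ℕ
  C : Set (Subgroup G)
  comm : ∀ A ∈ C, ∀ a ∈ A, ∀ b ∈ A, Commute a b
  pi : ∀ A ∈ C, ∀ a ∈ A, IsPiElem π a
  closed : ∀ A ∈ C, ∀ w ∈ A, w ∉ Subgroup.center G → ∀ g, Commute g w → ∀ a ∈ A, Commute g a
  mem : ∀ A ∈ C, ∀ g, IsPiElem π g → (∀ a ∈ A, Commute g a) → g ∈ A
  conj : ∀ A ∈ C, ∀ g, cj g A ∈ C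
  card : ∀ A ∈ C, ∀ B ∈ C, Nat.card A = Nat.card B

/-- The elements of `q`-power order. -/
def part (A : Subgroup G) (q : ℕ) : Subgroup G :=
  Subgroup.closure {a : G | a ∈ A ∧ IsPiElem {q} a}

theorem part_le (A : Subgroup G) (q : ℕ) : part A q ≤ A :=
  (Subgroup.closure_le _).mpr fun _ h => h.1

theorem mem_part_of {A : Subgroup G} {q : ℕ} {x : G} (h : x ∈ A) (hq : IsPiElem {q} x) :
    x ∈ part A q := Subgroup.subset_closure ⟨h, hq⟩

namespace Fam

variable (F : Fam G) {A B : Subgroup G} {q t : ℕ}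

/-- The prime `t` occurs outside the centre in every component. -/
def Lives (t : ℕ) : Prop := ∀ A ∈ F.C, ∃ w ∈ A, IsPiElem {t} w ∧ w ∉ Subgroup.center G

theorem mem_pi_of_lives (hA : A ∈ F.C) (ht : t.Prime) (hl : F.Lives t) : t ∈ F.π := by
  obtain ⟨w, hw, hwt, hwZ⟩ := hl A hA
  obtain ⟨k, hk, hd⟩ := Nat.exists_prime_and_dvd (show orderOf w ≠ 1 from fun e =>
    hwZ (orderOf_eq_one_iff.mp e ▸ one_mem _))
  exact Set.mem_singleton_iff.mp (hwt k hk hd) ▸ F.pi A hA w hw k hk hd

theorem mem_of_piElem (hA : A ∈ F.C) (ht : t.Prime) (hl : F.Lives t) {g : G}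
    (hg : IsPiElem {t} g) (hc : ∀ a ∈ A, Commute g a) : g ∈ A :=
  F.mem A hA g (hg.mono (Set.singleton_subset_iff.mpr (F.mem_pi_of_lives hA ht hl))) hc

theorem mem_part (hA : A ∈ F.C) {x : G} : x ∈ part A q ↔ x ∈ A ∧ IsPiElem {q} x := by
  refine ⟨fun h => ?_, fun h => mem_part_of h.1 h.2⟩
  induction h using Subgroup.closure_induction with
  | mem x hx => exact hx
  | one => exact ⟨one_mem _, IsPiElem.one _⟩
  | mul a b _ _ ha hb => exact ⟨mul_mem ha.1 hb.1, ha.2.mul hb.2 (F.comm A hA a ha.1 b hb.1)⟩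
  | inv a _ ha => exact ⟨inv_mem ha.1, ha.2.inv⟩

theorem eq_of_common (hA : A ∈ F.C) (hB : B ∈ F.C) {w : G} (hwA : w ∈ A) (hwB : w ∈ B)
    (hw : w ∉ Z) : A = B :=
  le_antisymm
    (fun a ha => F.mem B hB a (F.pi A hA a ha)
      (F.closed B hB w hwB hw a (F.comm A hA a ha w hwA)))
    (fun a ha => F.mem A hA a (F.pi B hB a ha)
      (F.closed A hA w hwA hw a (F.comm B hB a ha w hwB)))

theorem mem_normalizer_of_conj (hA : A ∈ F.C) {g w : G} (hw : w ∈ A) (hwZ : w ∉ Z)
    (h : g * w * g⁻¹ ∈ A) : g ∈ Subgroup.normalizer (A : Set G) :=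
  mem_normalizer_of_cj (F.eq_of_common (F.conj A hA g) hA (conj_mem_cj hw) h (conj_not_central hwZ))

theorem eq_center_mul (hA : A ∈ F.C) [Finite G] {g w : G} (hw : w ∈ A) (hwZ : w ∉ Z)
    (h : ⁅g, w⁆ ∈ Z) : g ∈ Subgroup.normalizer (A : Set G) := by
  refine mem_normalizer_of_cj (Subgroup.eq_of_le_of_card_ge (fun a ha => ?_) (card_cj g A).ge)
  have hB := F.conj A hA g
  refine F.mem A hA a (F.pi _ hB a ha) (F.closed A hA w hw hwZ a ?_)
  have h1 := F.comm _ hB a ha _ (conj_mem_cj hw)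
  rw [conj_eq_comm_mul] at h1
  have h2 : Commute a ⁅g, w⁆⁻¹ := (commute_of_mem_center h a).inv_right
  have h3 := h2.mul_right h1
  rwa [inv_mul_cancel_left] at h3

theorem part_conj_mem (hA : A ∈ F.C) {g x : G} (hg : g ∈ Subgroup.normalizer (A : Set G))
    (hx : x ∈ part A q) : g * x * g⁻¹ ∈ part A q := by
  rw [F.mem_part hA] at hx ⊢
  exact ⟨(Subgroup.mem_normalizer_iff.mp hg x).mp hx.1, (isPiElem_conj_iff g x).mpr hx.2⟩

variable [Finite G]

theorem isPGroup_part (hA : A ∈ F.C) (hq : q.Prime) : IsPGroup q (part A q) := fun x => by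
  obtain ⟨k, hk⟩ := exists_pow_orderOf ((F.mem_part hA).mp x.2).2
  exact ⟨k, Subtype.ext hk⟩

theorem card_part (hA : A ∈ F.C) (hq : q.Prime) :
    Nat.card (part A q) = q ^ (Nat.card A).factorization q := by
  haveI := Fact.mk hq
  obtain ⟨T⟩ := (inferInstance : Nonempty (Sylow q A))
  have h1 : (T : Subgroup A).map A.subtype ≤ part A q := by
    rintro _ ⟨x, hx, rfl⟩
    obtain ⟨k, hk⟩ := T.isPGroup' ⟨x, hx⟩
    exact mem_part_of x.2 (isPiElem_of_pow hq (k := k)
      (congrArg (fun y : (T : Subgroup A) => ((y : A) : G)) hk))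
  have h2 := Subgroup.card_dvd_of_le h1
  rw [Subgroup.card_map_of_injective A.subtype_injective, T.card_eq_multiplicity] at h2
  obtain ⟨k, hk⟩ := (F.isPGroup_part hA hq).exists_card_eq
  have h3 := Subgroup.card_dvd_of_le (part_le A q)
  rw [hk] at h2 h3 ⊢
  congr 1
  exact le_antisymm ((hq.pow_dvd_iff_le_factorization Nat.card_pos.ne').mp h3)
    ((Nat.pow_dvd_pow_iff_le_right hq.one_lt).mp h2)

theorem lives_of_exists (hA : A ∈ F.C) (hq : q.Prime) {w : G} (hw : w ∈ A)
    (hwq : IsPiElem {q} w) (hwZ : w ∉ Z) : F.Lives q := by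
  intro B hB
  by_contra hno
  push Not at hno
  have hq' : q ∈ F.π := by
    obtain ⟨k, hk, hd⟩ := Nat.exists_prime_and_dvd (show orderOf w ≠ 1 from fun e =>
      hwZ (orderOf_eq_one_iff.mp e ▸ one_mem _))
    exact Set.mem_singleton_iff.mp (hwq k hk hd) ▸ F.pi A hA w hw k hk hd
  have hle : part B q ≤ part A q := fun x hx => by
    obtain ⟨hxB, hxq⟩ := (F.mem_part hB).mp hx
    refine (F.mem_part hA).mpr ⟨F.mem A hA x (hxq.mono (Set.singleton_subset_iff.mpr hq'))
      (fun a _ => (commute_of_mem_center (hno x hxB hxq) a).symm), hxq⟩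
  have heq : part B q = part A q := Subgroup.eq_of_le_of_card_ge hle
    (by rw [F.card_part hA hq, F.card_part hB hq, F.card A hA B hB])
  have hwB : w ∈ part B q := by rw [heq]; exact mem_part_of hw hwq
  obtain ⟨h1, h2⟩ := (F.mem_part hB).mp hwB
  exact hwZ (hno w h1 h2)

/-- A `q`-group normalising a component centralises some element of order `q` modulo the centre. -/
theorem exists_fixed (hA : A ∈ F.C) (hq : q.Prime) (hl : F.Lives q) (Q : Subgroup G)
    (hQ : IsPGroup q Q) (hQA : Q ≤ Subgroup.normalizer (A : Set G)) :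
    ∃ y ∈ A, IsPiElem {q} y ∧ y ∉ Z ∧ y ^ q ∈ Z ∧ ∀ g ∈ Q, ⁅g, y⁆ ∈ Z := by
  classical
  haveI := Fact.mk hq
  let Ω : Set (G ⧸ Z) :=
    {e | ∃ a ∈ part A q, a ^ q ∈ Z ∧ QuotientGroup.mk' Z a = e}
  let U : Subgroup (G ⧸ Z) :=
    { carrier := Ω
      one_mem' := ⟨1, one_mem _, by simp, map_one _⟩
      mul_mem' := by
        rintro _ _ ⟨a, ha, ha', rfl⟩ ⟨b, hb, hb', rfl⟩
        refine ⟨a * b, mul_mem ha hb, ?_, map_mul _ _ _⟩
        rw [(F.comm A hA a ((F.mem_part hA).mp ha).1 b ((F.mem_part hA).mp hb).1).mul_pow]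
        exact mul_mem ha' hb'
      inv_mem' := by
        rintro _ ⟨a, ha, ha', rfl⟩
        exact ⟨a⁻¹, inv_mem ha, by rw [inv_pow]; exact inv_mem ha', map_inv _ _⟩ }
  have hU : IsPGroup q U := by
    rintro ⟨_, a, ha, ha', rfl⟩
    refine ⟨1, Subtype.ext ?_⟩
    show QuotientGroup.mk' Z a ^ q ^ 1 = 1
    rw [pow_one, ← map_pow]
    exact (QuotientGroup.eq_one_iff _).mpr ha'
  have hne : U ≠ ⊥ := by
    obtain ⟨w, hw, hwq, hwZ⟩ := hl A hA
    obtain ⟨k, hk⟩ := exists_pow_orderOf hwq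
    have hex : ∃ j, w ^ q ^ j ∈ Z := ⟨k, hk ▸ one_mem _⟩
    have hj0 : Nat.find hex ≠ 0 := fun e => hwZ (by simpa [e] using Nat.find_spec hex)
    obtain ⟨j, hj⟩ := Nat.exists_eq_add_one_of_ne_zero hj0
    intro hbot
    have hmem : QuotientGroup.mk' Z (w ^ q ^ j) ∈ U := by
      refine ⟨_, pow_mem (mem_part_of hw hwq) _, ?_, rfl⟩
      rw [← pow_mul, ← pow_succ, ← hj]
      exact Nat.find_spec hex
    rw [hbot, Subgroup.mem_bot] at hmem
    exact Nat.find_min hex (m := j) (by omega) ((QuotientGroup.eq_one_iff _).mp hmem)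
  have hinv : ∀ g ∈ Q, ∀ e ∈ U, QuotientGroup.mk' Z g * e * (QuotientGroup.mk' Z g)⁻¹ ∈ U := by
    rintro g hg _ ⟨a, ha, ha', rfl⟩
    refine ⟨g * a * g⁻¹, F.part_conj_mem hA (hQA hg) ha, ?_, by simp only [map_mul, map_inv]⟩
    rw [conj_pow]
    exact (inferInstance : (Z).Normal).conj_mem _ ha' g
  letI act : MulAction Q U :=
    { smul := fun g e => ⟨_, hinv g g.2 e e.2⟩
      one_smul := fun e => Subtype.ext (by
        show QuotientGroup.mk' Z ((1 : Q) : G) * _ * _ = _
        simp)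
      mul_smul := fun g k e => Subtype.ext (by
        show QuotientGroup.mk' Z ((g * k : Q) : G) * _ * _ = _ * (_ * _ * _) * _
        rw [Subgroup.coe_mul, map_mul]
        group) }
  haveI : Nontrivial U := (Subgroup.nontrivial_iff_ne_bot U).mpr hne
  have hdvd : q ∣ Nat.card U := by
    obtain ⟨n, hn0, hn⟩ := hU.nontrivial_iff_card.mp inferInstance
    exact hn ▸ dvd_pow_self q hn0.ne'
  have h1 : (1 : U) ∈ MulAction.fixedPoints Q U := fun g => Subtype.ext (by
    show _ * 1 * _ = _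
    simp)
  obtain ⟨⟨e, a, ha, ha', hae⟩, he, he1⟩ :=
    hQ.exists_fixed_point_of_prime_dvd_card_of_fixed_point U hdvd h1
  obtain ⟨haA, haq⟩ := (F.mem_part hA).mp ha
  refine ⟨a, haA, haq, fun hz => he1 (Subtype.ext ?_), ha', fun g hg => ?_⟩
  · show (1 : G ⧸ Z) = e
    rw [← hae, eq_comm]
    exact (QuotientGroup.eq_one_iff _).mpr hz
  · have h2 : QuotientGroup.mk' Z g * e * (QuotientGroup.mk' Z g)⁻¹ = e :=
      congrArg Subtype.val (he ⟨g, hg⟩)
    rw [← QuotientGroup.ker_mk' Z, MonoidHom.mem_ker, commutatorElement_def, map_mul, map_mul,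
      map_mul, map_inv, map_inv, hae, h2, mul_inv_cancel]

/-- Conjugation action on a component. -/
noncomputable def act (A : Subgroup G) (q : ℕ) (F : Fam G) (hA : A ∈ F.C) :
    Subgroup.normalizer (A : Set G) →* MulAut (part A q) where
  toFun g :=
    { toFun := fun x => ⟨g * x * (g : G)⁻¹, F.part_conj_mem hA g.2 x.2⟩
      invFun := fun x => ⟨(g : G)⁻¹ * x * g, by
        simpa using F.part_conj_mem hA (inv_mem g.2) x.2⟩
      left_inv := fun x => Subtype.ext (by simp [mul_assoc])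
      right_inv := fun x => Subtype.ext (by simp [mul_assoc])
      map_mul' := fun x y => Subtype.ext (by simp [mul_assoc]) }
  map_one' := MulEquiv.ext fun x => Subtype.ext (by simp)
  map_mul' g k := MulEquiv.ext fun x => Subtype.ext (by simp [mul_assoc])

theorem act_apply (hA : A ∈ F.C) (g : Subgroup.normalizer (A : Set G)) (x : part A q) :
    ((act A q F hA g x : part A q) : G) = g * x * (g : G)⁻¹ := rfl

/-- A `q`-group normalising a component contains its `q`-part with index at most `q`. -/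
theorem card_le_mul (hA : A ∈ F.C) (hq : q.Prime) (hl : F.Lives q) (ht : t.Prime) (htq : t ≠ q)
    (hlt : F.Lives t) (Q : Subgroup G) (hQ : IsPGroup q Q)
    (hQA : Q ≤ Subgroup.normalizer (A : Set G)) : Nat.card Q ≤ q * Nat.card (part A q) := by
  classical
  haveI := Fact.mk hq
  obtain ⟨y, hy, -, hyZ, hyq, hyQ⟩ := F.exists_fixed hA hq hl Q hQ hQA
  let ψ : Q →* Subgroup.center G :=
    { toFun := fun g => ⟨⁅(g : G), y⁆, hyQ g g.2⟩
      map_one' := Subtype.ext (commutatorElement_one_left y)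
      map_mul' := fun g k => Subtype.ext (by
        show ⁅(g : G) * k, y⁆ = ⁅(g : G), y⁆ * ⁅(k : G), y⁆
        rw [commutator_mul_left (hyQ k k.2), central_comm (hyQ g g.2)]) }
  have hker1 : ∀ g : Q, ψ g = 1 → ∀ a ∈ A, Commute (g : G) a := fun g hg =>
    F.closed A hA y hy hyZ g (commutatorElement_eq_one_iff_commute.mp (congrArg Subtype.val hg))
  have hker : ψ.ker.map Q.subtype ≤ part A q := by
    rintro _ ⟨g, hg, rfl⟩
    obtain ⟨k, hk⟩ := hQ g
    have hgq : IsPiElem {q} (g : G) := isPiElem_of_pow hq (congrArg Subtype.val hk)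
    exact mem_part_of (F.mem_of_piElem hA hq hl hgq (hker1 g (MonoidHom.mem_ker.mp hg))) hgq
  have hexp : ∀ g : Q, ψ g ^ q = 1 := fun g => by
    refine Subtype.ext ?_
    show ⁅(g : G), y⁆ ^ q = 1
    have h1 := conj_pow_right (hyQ g g.2) q
    rw [central_comm hyq, mul_inv_cancel_right] at h1
    exact mul_eq_right.mp h1.symm
  have hr : Nat.card ψ.range ≤ q := by
    by_contra hgt
    push Not at hgt
    haveI : Nontrivial ψ.range := Finite.one_lt_card_iff_nontrivial.mp (hq.one_lt.trans hgt)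
    obtain ⟨⟨_, g, rfl⟩, hg⟩ := exists_ne (1 : ψ.range)
    have hg1 : ψ g ≠ 1 := fun e => hg (Subtype.ext e)
    have hgo : orderOf (ψ g) = q := orderOf_eq_prime (hexp g) hg1
    obtain ⟨k, hk⟩ : ∃ k : Q, ψ k ∉ Subgroup.zpowers (ψ g) := by
      by_contra hall
      push Not at hall
      have h1 : ψ.range ≤ Subgroup.zpowers (ψ g) := by rintro _ ⟨k, rfl⟩; exact hall k
      have h2 := Subgroup.card_le_of_le h1
      rw [Nat.card_zpowers, hgo] at h2
      omega
    letI : CommGroup (part A t) :=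
      { (inferInstance : Group (part A t)) with
        mul_comm := fun a b => Subtype.ext (F.comm A hA a (part_le A t a.2) b (part_le A t b.2)).eq }
    let ι : Q →* Subgroup.normalizer (A : Set G) := Subgroup.inclusion hQA
    let f : Q →* MulAut (part A t) := (act A t F hA).comp ι
    have hf1 : ∀ n : Q, ψ n = 1 → f n = 1 := fun n hn => MulEquiv.ext fun x => Subtype.ext (by
      show (n : G) * x * (n : G)⁻¹ = x
      rw [(hker1 n hn x (part_le A t x.2)).eq, mul_inv_cancel_right])
    let M0 : Subgroup (part A t) := (Subgroup.center G).subgroupOf (part A t)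
    have key : ∀ x : part A t, x ^ q ∈ M0 := by
      refine pow_mem_of_fixed_elementary (f g) (f k) M0 hq ?_ ?_ ?_ ?_ ?_
      · rw [← map_pow]; exact hf1 _ (by rw [map_pow, hexp])
      · rw [← map_pow]; exact hf1 _ (by rw [map_pow, hexp])
      · show f g * f k = f k * f g
        have h1 : f (g * k * (k * g)⁻¹) = 1 := hf1 _ (by
          rw [map_mul, map_inv, map_mul, map_mul,
            show ψ g * ψ k = ψ k * ψ g from Subtype.ext (central_comm (ψ k).2 _)]
          exact mul_inv_cancel _)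
        rw [map_mul, map_inv, mul_inv_eq_one, map_mul, map_mul] at h1
        exact h1
      · intro i x hx
        rw [← map_pow]
        rw [Subgroup.mem_subgroupOf] at hx ⊢
        show ((g ^ i : Q) : G) * x * ((g ^ i : Q) : G)⁻¹ ∈ _
        rw [central_comm hx, mul_inv_cancel_right]
        exact hx
      · intro a b ha hb hab x hx
        rw [Subgroup.mem_subgroupOf]
        by_contra hxZ
        rw [← map_pow, ← map_pow, ← map_mul] at hx
        have hx' : ((g ^ a * k ^ b : Q) : G) * x * ((g ^ a * k ^ b : Q) : G)⁻¹ = x :=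
          congrArg Subtype.val hx
        have hc := F.closed A hA x (part_le A t x.2) hxZ _ (mul_inv_eq_iff_eq_mul.mp hx') y hy
        have h0 : ψ (g ^ a * k ^ b) = 1 :=
          Subtype.ext (commutatorElement_eq_one_iff_commute.mpr hc)
        rw [map_mul, map_pow, map_pow] at h0
        by_cases hb0 : b = 0
        · rw [hb0, pow_zero, mul_one] at h0
          have h3 := orderOf_dvd_of_pow_eq_one h0
          rw [hgo] at h3
          exact hab (Prod.ext (Nat.eq_zero_of_dvd_of_lt h3 ha) hb0)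
        · refine hk ?_
          have h3 : ψ k ^ b ∈ Subgroup.zpowers (ψ g) := by
            rw [eq_inv_of_mul_eq_one_right h0]
            exact inv_mem (pow_mem (Subgroup.mem_zpowers _) a)
          have hk1 : ψ k ≠ 1 := fun e => hk (e ▸ one_mem _)
          obtain ⟨m, hm⟩ := exists_pow_eq_self_of_coprime (n := b) (x := ψ k) (by
            rw [orderOf_eq_prime (hexp k) hk1]
            exact (hq.coprime_iff_not_dvd.mpr fun hd =>
              hb0 (Nat.eq_zero_of_dvd_of_lt hd hb)).symm)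
          exact hm ▸ pow_mem h3 m
    obtain ⟨v, hv, hvt, hvZ⟩ := hlt A hA
    exact hvZ (mem_center_of_coprime_pow ht hq (Ne.symm htq) hvt
      (key ⟨v, mem_part_of hv hvt⟩))
  calc Nat.card Q = Nat.card ψ.range * Nat.card ψ.ker := by
        rw [← Subgroup.index_ker, mul_comm, Subgroup.card_mul_index]
    _ ≤ q * Nat.card (part A q) := by
        refine Nat.mul_le_mul hr ?_
        rw [← Subgroup.card_map_of_injective Q.subtype_injective]
        exact Subgroup.card_le_of_le hker

/-- An element outside `C(A)` for a deficient prime. -/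
theorem exists_outside (hA : A ∈ F.C) (hq : q.Prime) (hl : F.Lives q)
    (hdef : (Nat.card A).factorization q < (Nat.card G).factorization q) :
    ∃ y h : G, y ∈ A ∧ IsPiElem {q} y ∧ y ∉ Z ∧ y ^ q ∈ Z ∧ IsPiElem {q} h ∧
      h ∈ Subgroup.normalizer (A : Set G) ∧ (∀ w ∈ A, w ∉ Z → ¬ Commute h w) ∧ ⁅h, y⁆ ∈ Z ∧
      h ^ q ∈ Z := by
  haveI := Fact.mk hq
  obtain ⟨P, hP⟩ := (F.isPGroup_part hA hq).exists_le_sylow
  have hlt : part A q < (P : Subgroup G) := lt_of_le_of_ne hP fun e => by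
    have h1 := F.card_part hA hq
    rw [e, P.card_eq_multiplicity] at h1
    have := Nat.pow_right_injective hq.two_le h1
    omega
  haveI := P.isPGroup'.isNilpotent
  have hlt' : (part A q).subgroupOf P < ⊤ := lt_top_iff_ne_top.mpr fun e =>
    hlt.not_ge (Subgroup.subgroupOf_eq_top.mp e)
  obtain ⟨g, hgN, hg⟩ := SetLike.exists_of_lt (normalizerCondition_of_isNilpotent _ hlt')
  obtain ⟨w, hw, hwq, hwZ⟩ := hl A hA
  have hgA : (g : G) ∈ Subgroup.normalizer (A : Set G) := by
    have hwP : w ∈ (P : Subgroup G) := hP (mem_part_of hw hwq)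
    have h1 := (Subgroup.mem_normalizer_iff.mp hgN ⟨w, hwP⟩).mp
      (Subgroup.mem_subgroupOf.mpr (mem_part_of hw hwq))
    exact F.mem_normalizer_of_conj hA hw hwZ (part_le A q (Subgroup.mem_subgroupOf.mp h1))
  obtain ⟨y, hy, hyq, hyZ, hyq', hyQ⟩ := F.exists_fixed hA hq hl
    ((P : Subgroup G) ⊓ Subgroup.normalizer (A : Set G)) (P.isPGroup'.to_le inf_le_left) inf_le_right
  have hgy : ⁅(g : G), y⁆ ∈ Z := hyQ g ⟨g.2, hgA⟩
  have hgq : IsPiElem {q} (g : G) := by
    obtain ⟨k, hk⟩ := P.isPGroup' g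
    exact isPiElem_of_pow hq (congrArg Subtype.val hk)
  have hout : ∀ v ∈ A, v ∉ Z → ¬ Commute (g : G) v := fun v hv hvZ hc => hg (by
    refine Subgroup.mem_subgroupOf.mpr (mem_part_of ?_ hgq)
    exact F.mem_of_piElem hA hq hl hgq (F.closed A hA v hv hvZ g hc))
  refine ⟨y, g, hy, hyq, hyZ, hyq', hgq, hgA, hout, hgy, ?_⟩
  by_contra hz
  have hgqA : (g : G) ^ q ∈ A := F.mem_of_piElem hA hq hl (hgq.pow q)
    (F.closed A hA y hy hyZ _ (pow_commute_of_pow_central hgy hyq'))
  exact hout _ hgqA hz (Commute.self_pow _ q)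

/-- Order of the `q`-part modulo the centre. -/
noncomputable def bar (A : Subgroup G) (q : ℕ) : ℕ := (Subgroup.center G).relIndex (part A q)

theorem bar_le (hA : A ∈ F.C) (hB : B ∈ F.C) (hne : A ≠ B) (hq : q.Prime) (hl : F.Lives q)
    (ht : t.Prime) (htq : t ≠ q) (hlt : F.Lives t) (Q : Subgroup G) (hQ : IsPGroup q Q)
    (hAQ : part A q ≤ Q) (hBQ : part B q ≤ Q)
    (hQB : Q ≤ Subgroup.normalizer (B : Set G)) : bar A q ≤ q := by
  have h1 : (part B q).relIndex Q ≤ q := by
    have h2 := F.card_le_mul hB hq hl ht htq hlt Q hQ hQB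
    have h3 := relIndex_mul_card hBQ
    rw [← h3] at h2
    exact Nat.le_of_mul_le_mul_right h2 Nat.card_pos
  refine le_trans ?_ h1
  refine le_trans ?_ (Subgroup.relIndex_le_of_le_right hAQ (relIndex_ne _ _))
  unfold bar
  rw [← Subgroup.inf_relIndex_right (part B q)]
  refine Subgroup.relIndex_le_of_le_left ?_ (relIndex_ne _ _)
  rintro x ⟨hxB, hxA⟩
  by_contra hxZ
  exact hne (F.eq_of_common hA hB (part_le A q hxA) (part_le B q hxB) hxZ)

theorem exists_sylow_le (hA : A ∈ F.C) (hq : q.Prime) (hl : F.Lives q) (ht : t.Prime)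
    (htq : t ≠ q) (hlt : F.Lives t) (hbig : q < bar A q) :
    ∃ P : Sylow q G, (P : Subgroup G) ≤ Subgroup.normalizer (A : Set G) := by
  classical
  haveI := Fact.mk hq
  haveI := Fintype.ofFinite (Sylow q G)
  obtain ⟨P, -, hPmax⟩ := Finset.exists_max_image (Finset.univ : Finset (Sylow q G))
    (fun P => Nat.card ↥((P : Subgroup G) ⊓ Subgroup.normalizer (A : Set G)))
    ⟨default, Finset.mem_univ _⟩
  refine ⟨P, ?_⟩
  set N := Subgroup.normalizer (A : Set G)
  set Q : Subgroup G := (P : Subgroup G) ⊓ N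
  by_contra hle
  haveI := P.isPGroup'.isNilpotent
  have hlt' : Q.subgroupOf P < ⊤ := lt_top_iff_ne_top.mpr fun e =>
    hle ((Subgroup.subgroupOf_eq_top.mp e).trans inf_le_right)
  obtain ⟨g, hgN, hg⟩ := SetLike.exists_of_lt (normalizerCondition_of_isNilpotent _ hlt')
  have hgnN : (g : G) ∉ N := fun h => hg (Subgroup.mem_subgroupOf.mpr ⟨g.2, h⟩)
  -- every `q`-subgroup of `N` containing `Q` equals `Q`
  have hmax : ∀ R : Subgroup G, IsPGroup q R → R ≤ N → Q ≤ R → R = Q := fun R hR hRN hQR => by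
    obtain ⟨P', hP'⟩ := hR.exists_le_sylow
    exact (Subgroup.eq_of_le_of_card_ge hQR ((Subgroup.card_le_of_le (le_inf hP' hRN)).trans
      (hPmax P' (Finset.mem_univ _)))).symm
  have hAQ : part A q ≤ Q := by
    have hn : Q ≤ Subgroup.normalizer (part A q : Set G) := fun x hx => by
      rw [Subgroup.mem_normalizer_iff]
      intro a
      refine ⟨fun h => F.part_conj_mem hA hx.2 h, fun h => ?_⟩
      have := F.part_conj_mem hA (inv_mem hx.2) h
      simpa [mul_assoc] using this
    have hsup := hmax (Q ⊔ part A q)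
      ((P.isPGroup'.to_le inf_le_left).to_sup_of_normal_right' (F.isPGroup_part hA hq) hn)
      (sup_le inf_le_right ((part_le A q).trans Subgroup.le_normalizer)) le_sup_left
    exact hsup ▸ le_sup_right
  have hconj : ∀ x ∈ Q, (g : G) * x * (g : G)⁻¹ ∈ Q := fun x hx => by
    have h1 := (Subgroup.mem_normalizer_iff.mp hgN ⟨x, hx.1⟩).mp (Subgroup.mem_subgroupOf.mpr hx)
    exact Subgroup.mem_subgroupOf.mp h1
  have hB := F.conj A hA g
  have hne : A ≠ cj (g : G) A := fun e => hgnN (mem_normalizer_of_cj e.symm)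
  have hBQ : part (cj (g : G) A) q ≤ Q := fun x hx => by
    obtain ⟨hxB, hxq⟩ := (F.mem_part hB).mp hx
    rw [mem_cj] at hxB
    have h1 := hconj _ (hAQ (mem_part_of hxB (by
      simpa using (isPiElem_conj_iff (g : G)⁻¹ x).mpr hxq)))
    simpa [mul_assoc] using h1
  have hQB : Q ≤ Subgroup.normalizer (cj (g : G) A : Set G) := by
    intro x hx
    apply mem_normalizer_of_cj
    have hinv : (g : G)⁻¹ * x * g ∈ Q := by
      have h2 := (Subgroup.mem_normalizer_iff.mp (inv_mem hgN) ⟨x, hx.1⟩).mp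
        (Subgroup.mem_subgroupOf.mpr hx)
      simpa using Subgroup.mem_subgroupOf.mp h2
    have h3 := cj_eq_of_mem_normalizer hinv.2
    conv_rhs => rw [← h3]
    rw [← cj_mul, ← cj_mul]
    congr 1
    group
  exact absurd (F.bar_le hA hB hne hq hl ht htq hlt Q (P.isPGroup'.to_le inf_le_left) hAQ hBQ hQB)
    (not_le.mpr hbig)

theorem part_le_sylow (hA : A ∈ F.C) (hq : q.Prime) (P : Sylow q G)
    (hP : (P : Subgroup G) ≤ Subgroup.normalizer (A : Set G)) : part A q ≤ P := by
  haveI := Fact.mk hq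
  have hn : (P : Subgroup G) ≤ Subgroup.normalizer (part A q : Set G) := fun x hx => by
    rw [Subgroup.mem_normalizer_iff]
    intro a
    refine ⟨fun h => F.part_conj_mem hA (hP hx) h, fun h => ?_⟩
    have := F.part_conj_mem hA (inv_mem (hP hx)) h
    simpa [mul_assoc] using this
  exact P.is_maximal' (P.isPGroup'.to_sup_of_normal_right' (F.isPGroup_part hA hq) hn) le_sup_left ▸
    le_sup_right

theorem bar_eq (hA : A ∈ F.C) (hB : B ∈ F.C) (hq : q.Prime) (hl : F.Lives q) :
    bar A q = bar B q := by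
  have hZ : ∀ {A B : Subgroup G}, A ∈ F.C → B ∈ F.C →
      Subgroup.center G ⊓ part A q ≤ Subgroup.center G ⊓ part B q := by
    intro A B hA hB x hx
    obtain ⟨-, hxq⟩ := (F.mem_part hA).mp hx.2
    exact ⟨hx.1, mem_part_of (F.mem_of_piElem hB hq hl hxq
      (fun a _ => (commute_of_mem_center hx.1 a).symm)) hxq⟩
  have h1 := relIndex_mul_card (show Subgroup.center G ⊓ part A q ≤ part A q from
    inf_le_right)
  have h2 := relIndex_mul_card (show Subgroup.center G ⊓ part B q ≤ part B q from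
    inf_le_right)
  rw [Subgroup.inf_relIndex_right] at h1 h2
  rw [le_antisymm (hZ hA hB) (hZ hB hA)] at h1
  rw [F.card_part hA hq, F.card A hA B hB, ← F.card_part hB hq, ← h2] at h1
  exact Nat.eq_of_mul_eq_mul_right Nat.card_pos h1

/-- The order of a deficient part that is minimal modulo the centre. -/
theorem dvd_sub_one_of_small (hA : A ∈ F.C) (hq : q.Prime) (hl : F.Lives q) {s : ℕ}
    (hs : s.Prime) (hsq : s ≠ q) (hls : F.Lives s)
    (hdef : (Nat.card A).factorization s < (Nat.card G).factorization s)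
    (hsmall : bar A q ≤ q) : s ∣ q - 1 := by
  classical
  haveI := Fact.mk hq
  obtain ⟨-, k, -, -, -, -, hkq, hkN, hkout, -, hks⟩ := F.exists_outside hA hs hls hdef
  obtain ⟨v, hv, hvq, hvZ⟩ := hl A hA
  set f := QuotientGroup.mk' (Subgroup.center G)
  have hcard : Nat.card ((part A q).map f) = bar A q := by
    have h := Subgroup.index_ker (f.comp (part A q).subtype)
    rw [← MonoidHom.comap_ker, QuotientGroup.ker_mk', MonoidHom.range_comp,
      Subgroup.range_subtype] at h
    exact h.symm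
  have hfv1 : f v ≠ 1 := fun e => hvZ ((QuotientGroup.eq_one_iff v).mp e)
  have hfv : f v ∈ (part A q).map f := Subgroup.mem_map_of_mem f (mem_part_of hv hvq)
  have hord : orderOf (f v) = q ∧ (part A q).map f = Subgroup.zpowers (f v) := by
    obtain ⟨j, hj⟩ := ((F.isPGroup_part hA hq).map f).exists_card_eq
    have hle : Nat.card ((part A q).map f) ≤ q := hcard.le.trans hsmall
    have h1 : orderOf (f v) ∣ Nat.card ((part A q).map f) := by
      rw [← Nat.card_zpowers]
      exact Subgroup.card_dvd_of_le (Subgroup.zpowers_le.mpr hfv)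
    have hj1 : j ≤ 1 :=
      (Nat.pow_le_pow_iff_right hq.one_lt).mp (by rw [pow_one, ← hj]; exact hle)
    have hq1 : orderOf (f v) = q := by
      rw [hj] at h1
      exact ((Nat.dvd_prime hq).mp (h1.trans ((pow_dvd_pow q hj1).trans (pow_one q).dvd))).resolve_left
        (orderOf_eq_one_iff.not.mpr hfv1)
    exact ⟨hq1, (Subgroup.eq_of_le_of_card_ge (Subgroup.zpowers_le.mpr hfv)
      (by rw [Nat.card_zpowers, hq1]; exact hle)).symm⟩
  have hmem : f (k * v * k⁻¹) ∈ Subgroup.zpowers (f v) := hord.2 ▸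
    Subgroup.mem_map_of_mem f (F.part_conj_mem hA hkN (mem_part_of hv hvq))
  obtain ⟨j, hj⟩ := (Submonoid.mem_powers_iff _ _).mp (mem_powers_iff_mem_zpowers.mpr hmem)
  have hit : ∀ i : ℕ, f k ^ i * f v * (f k ^ i)⁻¹ = f v ^ (j ^ i) := by
    intro i
    induction i with
    | zero => simp
    | succ i ih =>
      calc f k ^ (i + 1) * f v * (f k ^ (i + 1))⁻¹
          = f k * (f k ^ i * f v * (f k ^ i)⁻¹) * (f k)⁻¹ := by rw [pow_succ']; group
        _ = (f k * f v * (f k)⁻¹) ^ (j ^ i) := by rw [ih, conj_pow]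
        _ = f v ^ (j ^ (i + 1)) := by
          rw [← map_inv, ← map_mul, ← map_mul, ← hj, ← pow_mul, pow_succ']
  have hs1 : f k ^ s = 1 := by
    rw [← map_pow]; exact (QuotientGroup.eq_one_iff _).mpr hks
  have h1 := hit s
  rw [hs1, one_mul, inv_one, mul_one] at h1
  conv_lhs at h1 => rw [← pow_one (f v)]
  rw [pow_eq_pow_iff_modEq, hord.1] at h1
  have hjs : (j : ZMod q) ^ s = 1 := by
    rw [← Nat.cast_pow, ← Nat.cast_one]
    exact ((ZMod.natCast_eq_natCast_iff _ _ _).mpr h1).symm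
  have hj1 : (j : ZMod q) ≠ 1 := by
    intro e
    rw [← Nat.cast_one, ZMod.natCast_eq_natCast_iff] at e
    have h2 : f (k * v * k⁻¹) = f v := by
      rw [← hj]
      conv_rhs => rw [← pow_one (f v)]
      rw [pow_eq_pow_iff_modEq, hord.1]
      exact e
    refine hkout v hv hvZ (commute_of_primes hs hq hsq hkq hvq ?_)
    rw [← QuotientGroup.ker_mk' (Subgroup.center G), MonoidHom.mem_ker, commutatorElement_def,
      map_mul, h2, map_inv, mul_inv_cancel]
  have hj0 : (j : ZMod q) ≠ 0 := fun e => by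
    rw [e, zero_pow hs.ne_zero] at hjs; exact zero_ne_one hjs
  haveI := Fact.mk hs
  rw [← orderOf_eq_prime hjs hj1]
  exact ZMod.orderOf_dvd_card_sub_one hj0

theorem exists_large (hA : A ∈ F.C) (hq : q.Prime) (hl : F.Lives q) {s : ℕ} (hs : s.Prime)
    (hsq : s ≠ q) (hls : F.Lives s)
    (hdq : (Nat.card A).factorization q < (Nat.card G).factorization q)
    (hds : (Nat.card A).factorization s < (Nat.card G).factorization s) :
    q < bar A q ∨ s < bar A s := by
  by_contra hno
  push Not at hno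
  have h1 := F.dvd_sub_one_of_small hA hq hl hs hsq hls hds hno.1
  have h2 := F.dvd_sub_one_of_small hA hs hls hq (Ne.symm hsq) hl hdq hno.2
  have := Nat.le_of_dvd (by have := hq.two_le; omega) h1
  have := Nat.le_of_dvd (by have := hs.two_le; omega) h2
  have := hq.two_le
  omega

/-- All components are conjugate. -/
theorem exists_conj (hA : A ∈ F.C) (hB : B ∈ F.C) {s t : ℕ} (hs : s.Prime) (ht : t.Prime)
    (hst : s ≠ t) (hls : F.Lives s) (hlt : F.Lives t) : ∃ g : G, cj g A = B := by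
  classical
  have hAB := F.card A hA B hB
  by_cases hfull : ∃ q, q.Prime ∧ F.Lives q ∧
      ¬ (Nat.card A).factorization q < (Nat.card G).factorization q
  · obtain ⟨q, hq, hl, hf⟩ := hfull
    haveI := Fact.mk hq
    have heq : (Nat.card A).factorization q = (Nat.card G).factorization q :=
      le_antisymm ((Nat.factorization_le_iff_dvd Nat.card_pos.ne' Nat.card_pos.ne').mpr
        (Subgroup.card_subgroup_dvd_card A) q) (not_lt.mp hf)
    let PA : Sylow q G := Sylow.ofCard (part A q) (by rw [F.card_part hA hq, heq])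
    let PB : Sylow q G := Sylow.ofCard (part B q) (by rw [F.card_part hB hq, ← hAB, heq])
    obtain ⟨g, hg⟩ := MulAction.exists_smul_eq G PA PB
    obtain ⟨w, hw, hwq, hwZ⟩ := hl A hA
    refine ⟨g, F.eq_of_common (F.conj A hA g) hB (conj_mem_cj hw) ?_ (conj_not_central hwZ)⟩
    have h1 : MulAut.conj g • w ∈ ((g • PA : Sylow q G) : Subgroup G) :=
      Subgroup.smul_mem_pointwise_smul _ _ _ (mem_part_of hw hwq)
    rw [hg] at h1
    exact part_le B q h1
  · push Not at hfull
    obtain ⟨q, hq, hl, s', hs', hs'q, hls', hbig⟩ : ∃ q, q.Prime ∧ F.Lives q ∧ ∃ s', s'.Prime ∧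
        s' ≠ q ∧ F.Lives s' ∧ q < bar A q := by
      rcases F.exists_large hA hs hls ht (Ne.symm hst) hlt (hfull s hs hls) (hfull t ht hlt) with
        h | h
      · exact ⟨s, hs, hls, t, ht, Ne.symm hst, hlt, h⟩
      · exact ⟨t, ht, hlt, s, hs, hst, hls, h⟩
    haveI := Fact.mk hq
    obtain ⟨PA, hPA⟩ := F.exists_sylow_le hA hq hl hs' hs'q hls' hbig
    obtain ⟨PB, hPB⟩ := F.exists_sylow_le hB hq hl hs' hs'q hls'
      (F.bar_eq hA hB hq hl ▸ hbig)
    obtain ⟨g, hg⟩ := MulAction.exists_smul_eq G PA PB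
    refine ⟨g, ?_⟩
    by_contra hne
    have hPA' : (PB : Subgroup G) ≤ Subgroup.normalizer (cj g A : Set G) := by
      intro x hx
      rw [← hg] at hx
      obtain ⟨a, ha, rfl⟩ := hx
      apply mem_normalizer_of_cj
      show cj (g * a * g⁻¹) (cj g A) = cj g A
      conv_rhs => rw [← cj_eq_of_mem_normalizer (hPA ha)]
      rw [← cj_mul, ← cj_mul]
      congr 1
      group
    have h1 := F.bar_le (F.conj A hA g) hB hne hq hl hs' hs'q hls' PB PB.isPGroup'
      (F.part_le_sylow (F.conj A hA g) hq PB hPA') (F.part_le_sylow hB hq PB hPB) hPB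
    rw [F.bar_eq (F.conj A hA g) hA hq hl] at h1
    omega

end Fam

end Cfsg.Agent.ConjRank
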