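import Cfsg.Agent.ConjRank.Main

/-!
Two centraliser orders of noncentral elements, one centraliser properly contained in another.
-/

set_option autoImplicit false
set_option maxHeartbeats 400000

open scoped commutatorElement
open Cfsg.Agent.FG78

namespace Cfsg.Agent.ConjRank

universe u

variable {G : Type u} [Group G]

local notation "Z" => Subgroup.center G

/-- The order of a centraliser. -/
noncomputable def cc (x : G) : ℕ := Nat.card (Subgroup.centralizer ({x} : Set G))

/-- Noncentral elements have exactly two centraliser orders. -/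
structure Rank2 (G : Type u) [Group G] (c1 c2 : ℕ) : Prop where
  lt : c1 < c2
  cases : ∀ x : G, x ∉ Subgroup.center G → cc x = c1 ∨ cc x = c2
  ex1 : ∃ x : G, x ∉ Subgroup.center G ∧ cc x = c1
  ex2 : ∃ x : G, x ∉ Subgroup.center G ∧ cc x = c2

/-- `u` is an `s`-element of `C(y)` that is not central there. -/
def Sig (y : G) (s : ℕ) : Prop :=
  ∃ u k : G, IsPiElem {s} u ∧ Commute u y ∧ Commute k y ∧ ¬ Commute k u

variable [Finite G]

theorem mem_of_factorization_eq {N W : Subgroup G} [N.Normal] {t : ℕ} (ht : t.Prime) (hNW : N ≤ W)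
    (h : (Nat.card N).factorization t = (Nat.card W).factorization t) {x : G} (hx : x ∈ W)
    (hxt : IsPiElem {t} x) : x ∈ N := by
  haveI := Fact.mk ht
  have h1 : orderOf (QuotientGroup.mk' N x) ∣ Nat.card (W.map (QuotientGroup.mk' N)) := by
    rw [← Nat.card_zpowers]
    exact Subgroup.card_dvd_of_le (Subgroup.zpowers_le.mpr (Subgroup.mem_map_of_mem _ hx))
  have h2 : Nat.card (W.map (QuotientGroup.mk' N)) = N.relIndex W := by
    have h := Subgroup.index_ker ((QuotientGroup.mk' N).comp W.subtype)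
    rw [← MonoidHom.comap_ker, QuotientGroup.ker_mk', MonoidHom.range_comp,
      Subgroup.range_subtype] at h
    exact h.symm
  rw [h2] at h1
  obtain ⟨k, hk⟩ := exists_pow_orderOf (hxt.map (QuotientGroup.mk' N))
  obtain ⟨j, -, hj⟩ := (Nat.dvd_prime_pow ht).mp (orderOf_dvd_of_pow_eq_one hk)
  have hj0 : j = 0 := by
    by_contra hj0
    have h3 := (dvd_pow_self t hj0).trans (hj ▸ h1)
    have h4 := ht.factorization_pos_of_dvd (relIndex_ne N W) h3
    have h5 := congrArg (fun n : ℕ => n.factorization t) (relIndex_mul_card hNW)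
    simp only [Nat.factorization_mul (relIndex_ne N W) Nat.card_pos.ne', Finsupp.add_apply] at h5
    omega
  rw [hj0, pow_zero, orderOf_eq_one_iff] at hj
  exact (QuotientGroup.eq_one_iff x).mp hj

theorem exists_elem_of_lt {K : Subgroup G} {t : ℕ} (ht : t.Prime) (hZK : Z ≤ K)
    (h : (Nat.card (Z)).factorization t < (Nat.card K).factorization t) :
    ∃ v ∈ K, IsPiElem {t} v ∧ v ∉ Z := by
  by_contra hno
  push Not at hno
  have := factorization_eq_of_forall_mem hZK ht fun v hv hvt => hno v hv hvt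
  omega

theorem center_le_cent (x : G) : Z ≤ Subgroup.centralizer ({x} : Set G) :=
  Subgroup.center_le_centralizer _

theorem center_lt_cc {t : ℕ} (ht : t.Prime) {v : G} (hv : IsPiElem {t} v) (hvZ : v ∉ Z) :
    (Nat.card (Z)).factorization t < (cc v).factorization t := by
  refine lt_of_le_of_ne ((Nat.factorization_le_iff_dvd Nat.card_pos.ne' Nat.card_pos.ne').mpr
    (Subgroup.card_dvd_of_le (center_le_cent v)) t) fun e => hvZ ?_
  exact mem_of_factorization_eq ht (center_le_cent v) e (mem_cent_iff.mpr (Commute.refl v)) hv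

theorem cent_le_of_card {π : Set ℕ} {a b : G} (hab : Commute a b) (ha : IsPiElem π a)
    (hb : IsPiElem πᶜ b) (h : cc a ≤ cc (a * b)) :
    Subgroup.centralizer ({a} : Set G) ≤ Subgroup.centralizer ({b} : Set G) := by
  have h1 := centralizer_mul_eq π hab ha hb
  have h2 : Subgroup.centralizer ({a * b} : Set G) = Subgroup.centralizer ({a} : Set G) :=
    Subgroup.eq_of_le_of_card_ge (h1.le.trans inf_le_left) h
  rw [h1, inf_eq_left] at h2
  exact h2

theorem mul_not_central {π : Set ℕ} {a b : G} (hab : Commute a b) (ha : IsPiElem π a)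
    (hb : IsPiElem πᶜ b) (haZ : a ∉ Z) : a * b ∉ Z := by
  intro h
  refine haZ (mem_center_of_forall fun g => ?_)
  have hg : g ∈ Subgroup.centralizer ({a * b} : Set G) :=
    mem_cent_iff.mpr (commute_of_mem_center h g)
  rw [centralizer_mul_eq π hab ha hb] at hg
  exact mem_cent_iff.mp hg.1

theorem cent_piPart_le (π : Set ℕ) (x : G) :
    Subgroup.centralizer ({x} : Set G) ≤ Subgroup.centralizer ({piPart π x} : Set G) :=
  fun g hg => mem_cent_iff.mpr (commute_piPart π x (mem_cent_iff.mp hg))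

/-- If all noncentral `q'`-elements have centralisers of order `c`, then `Hyp` holds. -/
theorem hyp_of_constant {q c : ℕ} (hq : q.Prime)
    (hc : ∀ u : G, u ∉ Z → IsPiElem ({q}ᶜ : Set ℕ) u → cc u = c) {s t : ℕ} (hs : s.Prime)
    (ht : t.Prime) (hst : s ≠ t) (hsq : s ≠ q) (htq : t ≠ q) {u v : G} (hu : IsPiElem {s} u)
    (huZ : u ∉ Z) (hv : IsPiElem {t} v) (hvZ : v ∉ Z) :
    ordCompl[q] c = ordCompl[q] (Nat.card G) := by
  refine Hyp.eq_ordCompl (r := q) (a := ordCompl[q] c) ⟨hq, ?_, fun w hw hwq => ?_⟩ hs ht hst hsq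
    htq hu huZ hv hvZ
  · intro w hw hwq g hgw hgq h hhw
    obtain ⟨σ, hσ, hwσZ, hwσ, hσd⟩ := exists_primary hw
    have hσq : σ ≠ q := fun e => hwq σ hσ hσd e
    set ws := piPart {σ} w
    have hgws : Commute g ws := commute_piPart _ w hgw
    have hhws : Commute h ws := commute_piPart _ w hhw
    -- an element of another prime
    obtain ⟨τ, hτ, hτσ, hτq, e₀, he₀, he₀Z⟩ : ∃ τ, τ.Prime ∧ τ ≠ σ ∧ τ ≠ q ∧
        ∃ e : G, IsPiElem {τ} e ∧ e ∉ Z := by
      by_cases e : s = σ
      · exact ⟨t, ht, fun e' => hst (e.trans e'.symm), htq, v, hv, hvZ⟩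
      · exact ⟨s, hs, e, hsq, u, hu, huZ⟩
    have hcs : cc ws = c := hc ws hwσZ (hwσ.mono (sub_compl hσq))
    obtain ⟨e, hew, heτ, heZ⟩ := exists_elem_of_lt hτ (center_le_cent ws) (by
      have h1 := center_lt_cc hτ he₀ he₀Z
      rw [hc e₀ he₀Z (he₀.mono (sub_compl hτq)), ← hcs] at h1
      exact h1)
    rw [mem_cent_iff] at hew
    have hle : Subgroup.centralizer ({ws} : Set G) ≤ Subgroup.centralizer ({e} : Set G) := by
      refine cent_le_of_card (π := ({σ} : Set ℕ)) hew.symm hwσ (heτ.mono (sub_compl hτσ)) (le_of_eq ?_)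
      rw [hcs, hc _ (mul_not_central hew.symm hwσ (heτ.mono (sub_compl hτσ)) hwσZ)
        ((hwσ.mono (sub_compl hσq)).mul (heτ.mono (sub_compl hτq)) hew.symm)]
    have heq : Subgroup.centralizer ({ws} : Set G) = Subgroup.centralizer ({e} : Set G) :=
      Subgroup.eq_of_le_of_card_ge hle (le_of_eq
        ((hc e heZ (heτ.mono (sub_compl hτq))).trans hcs.symm))
    have key : ∀ {π : Set ℕ} {a : G} (b : G), a ∉ Z → IsPiElem ({q}ᶜ : Set ℕ) a →
        IsPiElem ({q}ᶜ : Set ℕ) b → IsPiElem π a → IsPiElem πᶜ b → Commute a b →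
        Subgroup.centralizer ({a} : Set G) ≤ Subgroup.centralizer ({b} : Set G) := by
      intro π a b ha haq hbq haπ hbπ hab
      refine cent_le_of_card hab haπ hbπ (le_of_eq ?_)
      rw [hc a ha haq, hc _ (mul_not_central hab haπ hbπ ha) (haq.mul hbq hab)]
    have h1 : Commute h (piPart' {σ} g) := mem_cent_iff.mp
      (key (π := ({σ} : Set ℕ)) _ hwσZ (hwσ.mono (sub_compl hσq))
        (by obtain ⟨i, hi⟩ := exists_piPart'_eq_pow {σ} g; exact hi ▸ hgq.pow i) hwσ
        (isPiElem_piPart' _ g) (commute_piPart' {σ} g hgws.symm) (mem_cent_iff.mpr hhws))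
    have h2 : Commute h (piPart {σ} g) := by
      refine mem_cent_iff.mp (key (π := ({τ} : Set ℕ)) _ heZ (heτ.mono (sub_compl hτq))
        (by obtain ⟨i, hi⟩ := exists_piPart_eq_pow {σ} g; exact hi ▸ hgq.pow i) heτ
        ((isPiElem_piPart {σ} g).mono (sub_compl (Ne.symm hτσ))) ?_
        (heq ▸ mem_cent_iff.mpr hhws))
      exact commute_piPart {σ} g (mem_cent_iff.mp (heq ▸ mem_cent_iff.mpr hgws)).symm
    have h3 := h2.mul_right h1
    rw [piPart_mul_piPart'] at h3
    exact h3.symm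
  · rw [show Nat.card (Subgroup.centralizer ({w} : Set G)) = cc w from rfl, hc w hw hwq]

theorem card_cent_subgroup (K : Subgroup G) (u : K) :
    cc u = Nat.card (Subgroup.centralizer ({(u : G)} : Set G) ⊓ K : Subgroup G) := by
  rw [← Nat.card_congr (Subgroup.subgroupOfEquivOfLe
    (inf_le_right : Subgroup.centralizer ({(u : G)} : Set G) ⊓ K ≤ K)).toEquiv]
  refine congrArg (fun H : Subgroup K => Nat.card H) (Subgroup.ext fun g => ?_)
  rw [mem_cent_iff, Subgroup.mem_subgroupOf, Subgroup.mem_inf, mem_cent_iff]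
  exact ⟨fun h => ⟨congrArg Subtype.val h.eq, g.2⟩, fun h => Subtype.ext h.1.eq⟩

namespace Rank2

variable {c1 c2 : ℕ}

theorem cc_le (hR : Rank2 G c1 c2) {x : G} (hx : x ∉ Z) : cc x ≤ c2 := by
  rcases hR.cases x hx with h | h <;> [exact h.le.trans hR.lt.le; exact h.le]

theorem le_cc (hR : Rank2 G c1 c2) {x : G} (hx : x ∉ Z) : c1 ≤ cc x := by
  rcases hR.cases x hx with h | h <;> [exact h.ge; exact hR.lt.le.trans h.ge]

theorem card_inf_eq (hR : Rank2 G c1 c2) {q : ℕ} {y u : G} (hy : IsPiElem {q} y) (hyZ : y ∉ Z)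
    (hyc : cc y = c2) (hu : IsPiElem ({q}ᶜ : Set ℕ) u) (huy : Commute u y) {k : G}
    (hk : Commute k y) (hku : ¬ Commute k u) :
    Nat.card (Subgroup.centralizer ({u} : Set G) ⊓ Subgroup.centralizer ({y} : Set G) :
      Subgroup G) = c1 := by
  rw [inf_comm, ← centralizer_mul_eq _ huy.symm hy hu]
  rcases hR.cases _ (mul_not_central huy.symm hy hu hyZ) with h | h
  · exact h
  · exact absurd (mem_cent_iff.mp (cent_le_of_card huy.symm hy hu (hyc.trans h.symm).le
      (mem_cent_iff.mpr hk))) hku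

theorem ordCompl_eq_of_sig (hR : Rank2 G c1 c2) {q : ℕ} (hq : q.Prime) {y : G}
    (hy : IsPiElem {q} y) (hyZ : y ∉ Z) (hyc : cc y = c2) {s t : ℕ} (hs : s.Prime) (ht : t.Prime)
    (hst : s ≠ t) (hsq : s ≠ q) (htq : t ≠ q) (hS : Sig y s) (hT : Sig y t) :
    ordCompl[q] c1 = ordCompl[q] c2 := by
  obtain ⟨u, k, hu, huy, hky, hku⟩ := hS
  obtain ⟨v, l, hv, hvy, hly, hlv⟩ := hT
  set K := Subgroup.centralizer ({y} : Set G) with hK
  have hof : ∀ {π : Set ℕ} (z : K), IsPiElem π z ↔ IsPiElem π (z : G) := fun {π} z => by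
    unfold IsPiElem; rw [Subgroup.orderOf_coe]
  have hc : ∀ w : K, w ∉ Subgroup.center K → IsPiElem ({q}ᶜ : Set ℕ) w → cc w = c1 := by
    intro w hw hwq
    obtain ⟨k', hk'⟩ : ∃ k' : K, ¬ Commute k' w := by
      by_contra hall
      push Not at hall
      exact hw (mem_center_of_forall hall)
    rw [card_cent_subgroup]
    exact hR.card_inf_eq hy hyZ hyc ((hof w).mp hwq) (mem_cent_iff.mp w.2) (mem_cent_iff.mp k'.2)
      fun h => hk' (Subtype.ext h.eq)
  have := hyp_of_constant (G := K) hq hc hs ht hst hsq htq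
    (u := ⟨u, mem_cent_iff.mpr huy⟩) (v := ⟨v, mem_cent_iff.mpr hvy⟩)
    ((hof _).mpr hu) (fun h => hku (congrArg Subtype.val
      (commute_of_mem_center h ⟨k, mem_cent_iff.mpr hky⟩).eq))
    ((hof _).mpr hv) (fun h => hlv (congrArg Subtype.val
      (commute_of_mem_center h ⟨l, mem_cent_iff.mpr hly⟩).eq))
  rw [this, ← hyc]
  rfl

theorem factorization_eq_of_sig (hR : Rank2 G c1 c2) {q : ℕ} (hq : q.Prime) {y : G}
    (hy : IsPiElem {q} y) (hyZ : y ∉ Z) (hyc : cc y = c2) {s t : ℕ} (hs : s.Prime) (ht : t.Prime)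
    (hst : s ≠ t) (hsq : s ≠ q) (htq : t ≠ q) (hS : Sig y s) (hT : Sig y t) {p : ℕ} (hp : p ≠ q) :
    c1.factorization p = c2.factorization p := by
  have h := congrArg (fun n : ℕ => n.factorization p)
    (hR.ordCompl_eq_of_sig hq hy hyZ hyc hs ht hst hsq htq hS hT)
  simpa [Nat.factorization_ordCompl, Finsupp.erase_ne hp] using h

theorem commute_of_no_sig {y : G} {π : Set ℕ} (h : ∀ s, s.Prime → s ∈ π → ¬ Sig y s) {u : G}
    (hu : IsPiElem π u) (huy : Commute u y) {k : G} (hk : Commute k y) : Commute k u := by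
  by_contra hku
  set K := Subgroup.centralizer ({y} : Set G) with hK
  have huK : (⟨u, mem_cent_iff.mpr huy⟩ : K) ∉ Subgroup.center K := fun hc =>
    hku (congrArg Subtype.val (commute_of_mem_center hc ⟨k, mem_cent_iff.mpr hk⟩).eq)
  obtain ⟨s, hs, hZ, hsp, hd⟩ := exists_primary huK
  set w := piPart {s} (⟨u, mem_cent_iff.mpr huy⟩ : K)
  obtain ⟨k', hk'⟩ : ∃ k' : K, ¬ Commute k' w := by
    by_contra hall
    push Not at hall
    exact hZ (mem_center_of_forall hall)
  refine h s hs (hu s hs (by rwa [Subgroup.orderOf_mk] at hd)) ⟨(w : G), (k' : G), ?_,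
    mem_cent_iff.mp w.2, mem_cent_iff.mp k'.2, fun hh => hk' (Subtype.ext hh.eq)⟩
  intro p hp hpd
  rw [Subgroup.orderOf_coe] at hpd
  exact hsp p hp hpd

theorem factorization_eq_of_not_sig {x y : G} {t : ℕ} (ht : t.Prime)
    (hle : Subgroup.centralizer ({x} : Set G) ≤ Subgroup.centralizer ({y} : Set G))
    (h : ¬ Sig y t) : (cc x).factorization t = (cc y).factorization t := by
  refine factorization_eq_of_forall_mem hle ht fun u hu hut => mem_cent_iff.mpr ?_
  exact (commute_of_no_sig (π := ({t} : Set ℕ)) (fun s _ hs => Set.mem_singleton_iff.mp hs ▸ h) hut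
    (mem_cent_iff.mp hu) (mem_cent_iff.mp (hle (mem_cent_iff.mpr (Commute.refl x))))).symm

/-- `c2 / c1` is a prime power. -/
theorem exists_prime_ratio (hR : Rank2 G c1 c2) (hG : ¬ Group.IsSolvable G) {x y : G}
    (hx : x ∉ Z) (hy : y ∉ Z)
    (hlt : Subgroup.centralizer ({x} : Set G) < Subgroup.centralizer ({y} : Set G)) :
    ∃ r : ℕ, r.Prime ∧ ∀ t : ℕ, t.Prime → t ≠ r → c1.factorization t = c2.factorization t := by
  classical
  obtain ⟨q, hq, hyZ, hyq, -⟩ := exists_primary hy
  have hlt' := hlt.trans_le (cent_piPart_le {q} y)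
  set y' := piPart {q} y
  have hcard : cc x < cc y' := Set.Finite.card_lt_card (Set.toFinite _) hlt'
  have hxc : cc x = c1 := (hR.cases x hx).resolve_right fun e => by
    have := hR.cc_le hyZ; omega
  have hyc : cc y' = c2 := (hR.cases _ hyZ).resolve_left fun e => by omega
  have heq : ∀ t : ℕ, t.Prime → ¬ Sig y' t → c1.factorization t = c2.factorization t :=
    fun t ht h => hxc ▸ hyc ▸ factorization_eq_of_not_sig ht hlt'.le h
  by_cases h1 : ∃ s, s.Prime ∧ s ≠ q ∧ Sig y' s
  swap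
  · push Not at h1
    exact ⟨q, hq, fun t ht htq => heq t ht (h1 t ht htq)⟩
  obtain ⟨s, hs, hsq, hS⟩ := h1
  by_cases h2 : ∃ t, t.Prime ∧ t ≠ q ∧ t ≠ s ∧ Sig y' t
  · obtain ⟨t, ht, htq, hts, hT⟩ := h2
    exact ⟨q, hq, fun p _ hp =>
      hR.factorization_eq_of_sig hq hyq hyZ hyc hs ht (Ne.symm hts) hsq htq hS hT hp⟩
  push Not at h2
  -- a third prime
  obtain ⟨t, ht, htq, hts, v₀, hv₀, hv₀Z⟩ := exists_third_prime hG q s
  have hdvd : c1 ∣ c2 := hxc ▸ hyc ▸ Subgroup.card_dvd_of_le hlt'.le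
  obtain ⟨v, hvK, hvt, hvZ⟩ := exists_elem_of_lt ht (center_le_cent y') (by
    refine lt_of_lt_of_le (center_lt_cc ht hv₀ hv₀Z) ?_
    refine (Nat.factorization_le_iff_dvd (Nat.card_pos.ne' : cc v₀ ≠ 0) Nat.card_pos.ne').mpr ?_ t
    show cc v₀ ∣ cc y'
    rw [hyc]
    rcases hR.cases v₀ hv₀Z with e | e <;> rw [e]
    exact hdvd)
  have hK : Subgroup.centralizer ({y'} : Set G) = Subgroup.centralizer ({v} : Set G) := by
    refine Subgroup.eq_of_le_of_card_ge (fun k hk => mem_cent_iff.mpr ?_)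
      ((hR.cc_le hvZ).trans hyc.ge)
    exact commute_of_no_sig (π := ({t} : Set ℕ))
      (fun p _ hp => Set.mem_singleton_iff.mp hp ▸ h2 t ht htq hts) hvt (mem_cent_iff.mp hvK)
      (mem_cent_iff.mp hk)
  have hK' : ∀ g : G, Commute g y' ↔ Commute g v := fun g => by
    rw [← mem_cent_iff, ← mem_cent_iff, hK]
  have hvc : cc v = c2 := by rw [← hyc]; unfold cc; rw [hK]
  have hSv : ∀ p, Sig v p ↔ Sig y' p := fun p => by simp only [Sig, hK']
  by_cases h3 : Sig y' q
  · exact ⟨t, ht, fun p _ hp => hR.factorization_eq_of_sig ht hvt hvZ hvc hs hq hsq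
      (Ne.symm hts) (Ne.symm htq) ((hSv s).mpr hS) ((hSv q).mpr h3) hp⟩
  · refine ⟨s, hs, fun p hp hps => heq p hp ?_⟩
    by_cases hpq : p = q
    · exact hpq ▸ h3
    · exact h2 p hp hpq hps

section Ratio

variable {r : ℕ}

theorem exists_in_cent (hR : Rank2 G c1 c2)
    (hreq : ∀ t : ℕ, t.Prime → t ≠ r → c1.factorization t = c2.factorization t) {t : ℕ}
    (ht : t.Prime) (htr : t ≠ r) {v₀ : G} (hv₀ : IsPiElem {t} v₀) (hv₀Z : v₀ ∉ Z) {w : G}
    (hw : w ∉ Z) : ∃ v : G, Commute v w ∧ IsPiElem {t} v ∧ v ∉ Z := by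
  obtain ⟨v, hv, hvt, hvZ⟩ := exists_elem_of_lt ht (center_le_cent w) (by
    have h := center_lt_cc ht hv₀ hv₀Z
    change _ < (cc w).factorization t
    rcases hR.cases v₀ hv₀Z with e | e <;> rcases hR.cases w hw with e' | e' <;>
      rw [e] at h <;> rw [e'] <;> have := hreq t ht htr <;> omega)
  exact ⟨v, mem_cent_iff.mp hv, hvt, hvZ⟩

/-- In a centraliser of the larger order only `r`-elements are not central. -/
theorem not_sig (hR : Rank2 G c1 c2) (hG : ¬ Group.IsSolvable G) (hr : r.Prime)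
    (hreq : ∀ t : ℕ, t.Prime → t ≠ r → c1.factorization t = c2.factorization t)
    (hrlt : c1.factorization r < c2.factorization r) {q : ℕ} (hq : q.Prime) (hqr : q ≠ r) {y : G}
    (hy : IsPiElem {q} y) (hyZ : y ∉ Z) (hyc : cc y = c2) {s : ℕ} (hs : s.Prime) (hsr : s ≠ r) :
    ¬ Sig y s := by
  classical
  -- the primes other than `q`
  have htwo : ∀ {p : ℕ} {z : G}, p.Prime → p ≠ r → IsPiElem {p} z → z ∉ Z → cc z = c2 →
      ∀ a b, a.Prime → b.Prime → a ≠ b → a ≠ p → b ≠ p → Sig z a → Sig z b → False := by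
    intro p z hp hpr hz hzZ hzc a b ha hb hab hap hbp hA hB
    have := hR.factorization_eq_of_sig hp hz hzZ hzc ha hb hab hap hbp hA hB (Ne.symm hpr)
    omega
  have hcentral : ∀ {p : ℕ} {z : G}, p.Prime → IsPiElem {p} z → z ∉ Z → cc z = c2 → ¬ Sig z r →
      ∀ a, a.Prime → a ≠ p → ¬ Sig z a := by
    intro p z hp hz hzZ hzc hnr a ha hap
    rintro ⟨u, k, hu, huz, hkz, hku⟩
    have h1 := hR.card_inf_eq hz hzZ hzc (hu.mono (sub_compl hap)) huz hkz hku
    have h2 := factorization_eq_of_forall_mem (inf_le_right :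
      Subgroup.centralizer ({u} : Set G) ⊓ Subgroup.centralizer ({z} : Set G) ≤ _) hr
      fun v hv hvr => ⟨mem_cent_iff.mpr ((commute_of_no_sig (π := ({r} : Set ℕ))
        (fun p _ hp => Set.mem_singleton_iff.mp hp ▸ hnr) hvr (mem_cent_iff.mp hv) huz).symm),
        hv⟩
    rw [h1, show Nat.card (Subgroup.centralizer ({z} : Set G)) = cc z from rfl, hzc] at h2
    omega
  by_cases hr' : Sig y r
  · by_cases hsq : s = q
    swap
    · exact fun hS => htwo hq hqr hy hyZ hyc s r hs hr hsr hsq (Ne.symm hqr) hS hr'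
    subst hsq
    intro hS
    obtain ⟨t, ht, htr, htq, v₀, hv₀, hv₀Z⟩ := exists_third_prime hG r s
    obtain ⟨v, hvy, hvt, hvZ⟩ := hR.exists_in_cent hreq ht htr hv₀ hv₀Z hyZ
    have hK : Subgroup.centralizer ({y} : Set G) = Subgroup.centralizer ({v} : Set G) := by
      refine Subgroup.eq_of_le_of_card_ge (fun k hk => mem_cent_iff.mpr ?_)
        ((hR.cc_le hvZ).trans hyc.ge)
      exact commute_of_no_sig (π := ({t} : Set ℕ))
        (fun p _ hp => Set.mem_singleton_iff.mp hp ▸
          fun hT => htwo hq hqr hy hyZ hyc t r ht hr htr htq (Ne.symm hqr) hT hr')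
        hvt hvy (mem_cent_iff.mp hk)
    have hK' : ∀ g : G, Commute g y ↔ Commute g v := fun g => by
      rw [← mem_cent_iff, ← mem_cent_iff, hK]
    have hSv : ∀ p, Sig v p ↔ Sig y p := fun p => by simp only [Sig, hK']
    exact htwo ht htr hvt hvZ (by rw [← hyc]; unfold cc; rw [hK]) s r hs hr hsr (Ne.symm htq)
      (Ne.symm htr) ((hSv s).mpr hS) ((hSv r).mpr hr')
  · by_cases hsq : s = q
    swap
    · exact hcentral hq hy hyZ hyc hr' s hs hsq
    subst hsq
    obtain ⟨v, hvK, hvr, hvZ⟩ := exists_elem_of_lt hr (center_le_cent y) (by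
      change _ < (cc y).factorization r
      rw [hyc]
      obtain ⟨x, hx, hxc⟩ := hR.ex1
      refine lt_of_le_of_lt ?_ hrlt
      rw [← hxc]
      exact (Nat.factorization_le_iff_dvd Nat.card_pos.ne' Nat.card_pos.ne').mpr
        (Subgroup.card_dvd_of_le (center_le_cent x)) r)
    have hK : Subgroup.centralizer ({y} : Set G) = Subgroup.centralizer ({v} : Set G) := by
      refine Subgroup.eq_of_le_of_card_ge (fun k hk => mem_cent_iff.mpr ?_)
        ((hR.cc_le hvZ).trans hyc.ge)
      exact commute_of_no_sig (π := ({r} : Set ℕ))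
        (fun p _ hp => Set.mem_singleton_iff.mp hp ▸ hr') hvr (mem_cent_iff.mp hvK)
        (mem_cent_iff.mp hk)
    have hK' : ∀ g : G, Commute g y ↔ Commute g v := fun g => by
      rw [← mem_cent_iff, ← mem_cent_iff, hK]
    have hSv : ∀ p, Sig v p ↔ Sig y p := fun p => by simp only [Sig, hK']
    exact fun hS => hcentral hr hvr hvZ (by rw [← hyc]; unfold cc; rw [hK])
      (fun h => hr' ((hSv r).mp h)) s hs hsr ((hSv s).mpr hS)

theorem hyp (hR : Rank2 G c1 c2) (hG : ¬ Group.IsSolvable G) (hr : r.Prime)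
    (hreq : ∀ t : ℕ, t.Prime → t ≠ r → c1.factorization t = c2.factorization t)
    (hrlt : c1.factorization r < c2.factorization r) : Hyp G r (ordCompl[r] c1) := by
  refine ⟨hr, ?_, fun w hw _ => ?_⟩
  · intro w hw hwr g hgw hgr h hhw
    obtain ⟨s, hs, hwsZ, hws, hsd⟩ := exists_primary hw
    have hsr : s ≠ r := fun e => hwr s hs hsd e
    set ws := piPart {s} w
    have hgws : Commute g ws := commute_piPart _ w hgw
    have hhws : Commute h ws := commute_piPart _ w hhw
    have big : ∀ {p : ℕ} {z : G}, p.Prime → p ≠ r → IsPiElem {p} z → z ∉ Z → cc z = c2 →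
        ∀ a b : G, Commute a z → IsPiElem ({r}ᶜ : Set ℕ) a → Commute b z → Commute b a :=
      fun hp hpr hz hzZ hzc a b haz har hbz =>
        commute_of_no_sig (fun σ hσ hσr => hR.not_sig hG hr hreq hrlt hp hpr hz hzZ hzc hσ hσr)
          har haz hbz
    have small : ∀ {p : ℕ} {z : G}, IsPiElem {p} z → z ∉ Z → cc z = c1 →
        ∀ a b : G, Commute a z → IsPiElem ({p}ᶜ : Set ℕ) a → Commute b z → Commute b a :=
      fun hz hzZ hzc a b haz hap hbz =>
        mem_cent_iff.mp (cent_le_of_card haz.symm hz hap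
          (hzc.le.trans (hR.le_cc (mul_not_central haz.symm hz hap hzZ))) (mem_cent_iff.mpr hbz))
    rcases hR.cases ws hwsZ with hc | hc
    · have h1 : Commute h (piPart' {s} g) := small hws hwsZ hc _ h
        (commute_piPart' {s} g hgws.symm).symm (isPiElem_piPart' _ g) hhws
      have h2 : Commute h (piPart {s} g) := by
        obtain ⟨t, ht, htr, hts, v₀, hv₀, hv₀Z⟩ := exists_third_prime hG r s
        obtain ⟨v, hvw, hvt, hvZ⟩ := hR.exists_in_cent hreq ht htr hv₀ hv₀Z hwsZ
        have hv : ∀ b : G, Commute b ws → Commute b v := fun b hb =>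
          small hws hwsZ hc v b hvw (hvt.mono (sub_compl hts)) hb
        have hgs : Commute (piPart {s} g) v :=
          hv _ (commute_piPart {s} g hgws.symm).symm
        rcases hR.cases v hvZ with hcv | hcv
        · exact small hvt hvZ hcv _ h hgs ((isPiElem_piPart {s} g).mono (sub_compl (Ne.symm hts)))
            (hv h hhws)
        · exact big ht htr hvt hvZ hcv _ h hgs
            ((isPiElem_piPart {s} g).mono (sub_compl hsr)) (hv h hhws)
      have h3 := h2.mul_right h1
      rw [piPart_mul_piPart'] at h3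
      exact h3.symm
    · exact (big hs hsr hws hwsZ hc g h hgws hgr hhws).symm
  · refine Nat.eq_of_factorization_eq (Nat.ordCompl_pos r Nat.card_pos.ne').ne'
      (Nat.ordCompl_pos r ?_).ne' fun t => ?_
    · obtain ⟨x, -, hx⟩ := hR.ex1
      exact hx ▸ (Nat.card_pos.ne' : cc x ≠ 0)
    rw [Nat.factorization_ordCompl, Nat.factorization_ordCompl]
    by_cases htr : t = r
    · rw [htr, Finsupp.erase_same, Finsupp.erase_same]
    · rw [Finsupp.erase_ne htr, Finsupp.erase_ne htr]
      show (cc w).factorization t = _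
      by_cases ht : t.Prime
      · rcases hR.cases w hw with e | e <;> rw [e]
        exact (hreq t ht htr).symm
      · rw [Nat.factorization_eq_zero_of_not_prime _ ht, Nat.factorization_eq_zero_of_not_prime _ ht]

end Ratio

/-- The case of a proper containment of centralisers. -/
theorem isSolvable_of_lt (hR : Rank2 G c1 c2) {x y : G} (hx : x ∉ Z) (hy : y ∉ Z)
    (hlt : Subgroup.centralizer ({x} : Set G) < Subgroup.centralizer ({y} : Set G)) :
    Group.IsSolvable G := by
  by_contra hG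
  obtain ⟨r, hr, hreq⟩ := hR.exists_prime_ratio hG hx hy hlt
  have h2 : cc x < cc y := Set.Finite.card_lt_card (Set.toFinite _) hlt
  have hdvd : cc x ∣ cc y := Subgroup.card_dvd_of_le hlt.le
  have hx1 : cc x = c1 := (hR.cases x hx).resolve_right fun e => by
    have := hR.cc_le hy; omega
  have hy2 : cc y = c2 := (hR.cases y hy).resolve_left fun e => by omega
  have h10 : c1 ≠ 0 := hx1 ▸ Nat.card_pos.ne'
  have h20 : c2 ≠ 0 := hy2 ▸ Nat.card_pos.ne'
  refine hG (hR.hyp hG hr hreq ?_).isSolvable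
  refine lt_of_le_of_ne ((Nat.factorization_le_iff_dvd h10 h20).mpr (hx1 ▸ hy2 ▸ hdvd) r)
    fun e => hR.lt.ne (Nat.eq_of_factorization_eq h10 h20 fun t => ?_)
  by_cases htr : t = r
  · exact htr ▸ e
  · by_cases ht : t.Prime
    · exact hreq t ht htr
    · rw [Nat.factorization_eq_zero_of_not_prime _ ht, Nat.factorization_eq_zero_of_not_prime _ ht]

end Rank2

end Cfsg.Agent.ConjRank
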