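import Cfsg.Agent.ConjRank.Radical
import Cfsg.Agent.Kazarin19.Main

/-!
A group satisfying `Hyp` is solvable.
-/

set_option autoImplicit false
set_option maxHeartbeats 400000

open scoped commutatorElement
open Cfsg.Agent.FG78

namespace Cfsg.Agent.ConjRank

universe u

variable {G : Type u} [Group G]

local notation "Z" => Subgroup.center G

theorem exists_eq_pow {n r : ℕ} (hn : n ≠ 0)
    (h : ∀ t : ℕ, t.Prime → t ≠ r → n.factorization t = 0) : ∃ k, n = r ^ k :=
  ⟨_, Nat.eq_prime_pow_of_unique_prime_dvd hn fun {d} hd hdn => by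
    by_contra hne
    have := hd.factorization_pos_of_dvd hn hdn
    have := h d hd hne
    omega⟩

theorem exists_normal_abelian (R : Type u) [Group R] [Group.IsSolvable R] [Nontrivial R] :
    ∃ E : Subgroup R, E.Normal ∧ E ≠ ⊥ ∧ ∀ x ∈ E, ∀ y ∈ E, Commute x y := by
  classical
  obtain ⟨n, hn⟩ := (Group.isSolvable_def R).mp inferInstance
  have hex : ∃ n, derivedSeries R n = ⊥ := ⟨n, hn⟩
  have h0 : Nat.find hex ≠ 0 := fun e => by
    have := Nat.find_spec hex
    rw [e, derivedSeries_zero] at this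
    exact top_ne_bot this
  obtain ⟨m, hm⟩ := Nat.exists_eq_add_one_of_ne_zero h0
  refine ⟨derivedSeries R m, derivedSeries_normal R m, Nat.find_min hex (by omega),
    fun x hx y hy => commutatorElement_eq_one_iff_commute.mp ?_⟩
  have h := Subgroup.commutator_mem_commutator hx hy
  rw [← derivedSeries_succ, ← hm, Nat.find_spec hex, Subgroup.mem_bot] at h
  exact h

/-- A nontrivial group of odd order has a normal subgroup of prime exponent, abelian and
nontrivial. -/
theorem exists_normal_elementary (R : Type u) [Group R] [Finite R] [Nontrivial R]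
    (hodd : Odd (Nat.card R)) : ∃ (t : ℕ) (V : Subgroup R), t.Prime ∧ t ≠ 2 ∧ V.Normal ∧ V ≠ ⊥ ∧
      (∀ x ∈ V, x ^ t = 1) ∧ ∀ x ∈ V, ∀ y ∈ V, Commute x y := by
  haveI := Cfsg.Agent.PF14.feitThompson _ hodd
  obtain ⟨E, hEn, hE, hEc⟩ := exists_normal_abelian R
  obtain ⟨t, ht, htd⟩ := Nat.exists_prime_and_dvd (show Nat.card E ≠ 1 from fun e =>
    hE (Subgroup.card_eq_one.mp e))
  haveI := Fact.mk ht
  obtain ⟨e, he⟩ := exists_prime_orderOf_dvd_card' t htd
  let V : Subgroup R :=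
    { carrier := {x | x ∈ E ∧ x ^ t = 1}
      one_mem' := ⟨one_mem _, one_pow _⟩
      mul_mem' := fun {x y} hx hy => ⟨mul_mem hx.1 hy.1, by
        rw [(hEc x hx.1 y hy.1).mul_pow, hx.2, hy.2, one_mul]⟩
      inv_mem' := fun {x} hx => ⟨inv_mem hx.1, by rw [inv_pow, hx.2, inv_one]⟩ }
  refine ⟨t, V, ht, ?_, ⟨fun x hx g => ⟨hEn.conj_mem x hx.1 g, ?_⟩⟩, ?_, fun x hx => hx.2,
    fun x hx y hy => hEc x hx.1 y hy.1⟩
  · rintro rfl
    exact (Nat.not_even_iff_odd.mpr hodd)
      (even_iff_two_dvd.mpr (htd.trans (Subgroup.card_subgroup_dvd_card E)))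
  · rw [conj_pow, hx.2, mul_one, mul_inv_cancel]
  · intro hV
    have hmem : (e : R) ∈ V := ⟨e.2, by
      rw [← Subgroup.coe_pow, ← he, pow_orderOf_eq_one, Subgroup.coe_one]⟩
    rw [hV, Subgroup.mem_bot] at hmem
    rw [show e = 1 from Subtype.ext hmem, orderOf_one] at he
    exact ht.ne_one he.symm

namespace Hyp

variable [Finite G] {r a : ℕ}

theorem factorization_cent (hH : Hyp G r a) {w : G} (hwZ : w ∉ Z)
    (hwr : IsPiElem ({r}ᶜ : Set ℕ) w) {t : ℕ} (htr : t ≠ r) :
    (Nat.card (Subgroup.centralizer ({w} : Set G))).factorization t = a.factorization t := by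
  rw [← hH.card w hwZ hwr, Nat.factorization_ordCompl, Finsupp.erase_ne htr]

/-- If a prime has a smaller part in a component, it lives in it. -/
theorem lives_of_deficient (hH : Hyp G r a) {w : G} (hwZ : w ∉ Z)
    (hwr : IsPiElem ({r}ᶜ : Set ℕ) w) {t : ℕ} (ht : t.Prime) (htr : t ≠ r)
    (hdef : a.factorization t < (Nat.card G).factorization t) : hH.fam.Lives t := by
  by_contra hno
  have h := factorization_eq_of_forall_mem (H := Subgroup.centralizer ({w} : Set G)) le_top ht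
    fun x _ hx => mem_cent_iff.mpr (by
      by_cases hxZ : x ∈ Z
      · exact (commute_of_mem_center hxZ w).symm
      · exact absurd (hH.lives_of_noncentral ht htr hx hxZ) hno)
  rw [hH.factorization_cent hwZ hwr htr, Subgroup.card_top] at h
  omega

section Cases

variable {A : Subgroup G}

/-- The case in which `2` is deficient. -/
theorem case_two_deficient (hH : Hyp G r a) (hA : A ∈ hH.fam.C) (h2 : hH.fam.Lives 2)
    (hd2 : (Nat.card A).factorization 2 < (Nat.card G).factorization 2) {q : ℕ} (hq : q.Prime)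
    (hq2 : q ≠ 2) (hlq : hH.fam.Lives q)
    (hdq : (Nat.card A).factorization q < (Nat.card G).factorization q) : False := by
  set F := hH.fam
  haveI := Fact.mk Nat.prime_two
  obtain ⟨-, i, -, -, -, -, hi2, hiN, hiout, -, hisq⟩ :=
    F.exists_outside hA Nat.prime_two h2 hd2
  obtain ⟨-, h, -, -, -, -, hhq, hhN, hhout, -, -⟩ := F.exists_outside hA hq hlq hdq
  obtain ⟨y, hyA, hy2, hyZ, hyy, -⟩ := F.exists_fixed hA Nat.prime_two h2 ⊥ IsPGroup.of_bot bot_le
  have hfix : ∀ x ∈ A, x * (i * x * i⁻¹) ∈ Z := by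
    intro x hx
    have hx' : i * x * i⁻¹ ∈ A := (Subgroup.mem_normalizer_iff.mp hiN x).mp hx
    by_contra hz
    refine hiout _ (mul_mem hx hx') hz ?_
    have h1 : i * (i * x * i⁻¹) * i⁻¹ = x := by
      rw [show i * (i * x * i⁻¹) * i⁻¹ = i ^ 2 * x * (i ^ 2)⁻¹ by rw [sq]; group,
        ← central_comm hisq x, mul_inv_cancel_right]
    refine mul_inv_eq_iff_eq_mul.mp ?_
    rw [show i * (x * (i * x * i⁻¹)) * i⁻¹ = (i * x * i⁻¹) * (i * (i * x * i⁻¹) * i⁻¹) by group, h1]
    exact (F.comm A hA _ hx' x hx).eq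
  let U : Subgroup G :=
    { carrier := {x | x ∈ part A 2 ∧ x ^ 2 ∈ Z}
      one_mem' := ⟨one_mem _, by rw [one_pow]; exact one_mem _⟩
      mul_mem' := fun {x z} hx hz => ⟨mul_mem hx.1 hz.1, by
        rw [(F.comm A hA x (part_le A 2 hx.1) z (part_le A 2 hz.1)).mul_pow]
        exact mul_mem hx.2 hz.2⟩
      inv_mem' := fun {x} hx => ⟨inv_mem hx.1, by rw [inv_pow]; exact inv_mem hx.2⟩ }
  have hUA : ∀ x ∈ U, x ∈ A := fun x hx => part_le A 2 hx.1
  have hcomm : ∀ x ∈ U, ⁅i, x⁆ ∈ Z := by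
    intro x hx
    have h1 := hfix x (hUA x hx)
    rw [show x * (i * x * i⁻¹) = x * ⁅i, x⁆ * x by rw [commutatorElement_def]; group] at h1
    have h3 : ⁅i, x⁆ * x ^ 2 ∈ Z := by
      have := (inferInstance : (Z).Normal).conj_mem _ h1 x⁻¹
      rwa [show x⁻¹ * (x * ⁅i, x⁆ * x) * x⁻¹⁻¹ = ⁅i, x⁆ * x ^ 2 by rw [sq]; group] at this
    exact (Subgroup.mul_mem_cancel_right _ hx.2).mp h3
  have hiZ : i ∉ Z := fun hz => hiout y hyA hyZ (commute_of_mem_center hz y).symm
  have hir : IsPiElem ({r}ᶜ : Set ℕ) i :=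
    hi2.mono (sub_compl (hH.ne_of_lives hA Nat.prime_two h2))
  obtain ⟨hB, hiB⟩ := hH.comp_mem hiZ hir
  set B := comp r i
  have hne : A ≠ B := fun e => hiout y hyA hyZ (F.comm A hA i (e ▸ hiB) y hyA)
  have hUN : U ≤ Subgroup.normalizer (B : Set G) := fun x hx =>
    F.eq_center_mul hB hiB hiZ (by rw [← commutatorElement_inv]; exact inv_mem (hcomm x hx))
  have hUn : U ≤ Subgroup.normalizer (part B 2 : Set G) := fun x hx => by
    rw [Subgroup.mem_normalizer_iff]
    intro c
    refine ⟨fun h => F.part_conj_mem hB (hUN hx) h, fun h => ?_⟩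
    have := F.part_conj_mem hB (inv_mem (hUN hx)) h
    simpa [mul_assoc] using this
  have hUp : IsPGroup 2 U := fun x => by
    obtain ⟨k, hk⟩ := exists_pow_orderOf ((F.mem_part hA).mp x.2.1).2
    exact ⟨k, Subtype.ext hk⟩
  have hQ : IsPGroup 2 (U ⊔ part B 2 : Subgroup G) :=
    hUp.to_sup_of_normal_right' (F.isPGroup_part hB Nat.prime_two) hUn
  have h3 := F.card_le_mul hB Nat.prime_two h2 hq hq2 hlq _ hQ
    (sup_le hUN ((part_le B 2).trans Subgroup.le_normalizer))
  rw [← relIndex_mul_card (le_sup_right : part B 2 ≤ U ⊔ part B 2)] at h3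
  have h4 : (Subgroup.center G).relIndex U ≤ 2 := by
    refine le_trans ?_ ((Subgroup.relIndex_le_of_le_right (le_sup_left : U ≤ U ⊔ part B 2)
      (relIndex_ne _ _)).trans (Nat.le_of_mul_le_mul_right h3 Nat.card_pos))
    rw [← Subgroup.inf_relIndex_right (part B 2)]
    refine Subgroup.relIndex_le_of_le_left ?_ (relIndex_ne _ _)
    rintro x ⟨hxB, hxU⟩
    by_contra hxZ
    exact hne (F.eq_of_common hA hB (hUA x hxU) (part_le B 2 hxB) hxZ)
  have h5 : (Subgroup.center G).relIndex U = 2 := by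
    have h6 : (Subgroup.center G).relIndex U ≠ 1 := fun e =>
      hyZ (Subgroup.relIndex_eq_one.mp e ⟨mem_part_of hyA hy2, hyy⟩)
    have := relIndex_ne (Subgroup.center G) U
    omega
  -- `h` fixes the nontrivial coset
  have hyU : y ∈ U := ⟨mem_part_of hyA hy2, hyy⟩
  have hyU' : h * y * h⁻¹ ∈ U := ⟨F.part_conj_mem hA hhN hyU.1, by
    rw [conj_pow]; exact (inferInstance : (Z).Normal).conj_mem _ hyy h⟩
  have h7 := (Subgroup.mul_mem_iff_of_index_two h5 (a := (⟨_, hyU'⟩ : U))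
    (b := (⟨_, inv_mem hyU⟩ : U))).mpr (by
      simp only [Subgroup.mem_subgroupOf, inv_mem_iff, conj_not_central hyZ, hyZ])
  simp only [Subgroup.mem_subgroupOf, Subgroup.coe_mul] at h7
  exact hhout y hyA hyZ (commute_of_primes hq Nat.prime_two hq2 hhq hy2 h7)

/-- The case in which `r = 2`. -/
theorem case_r_two (hH : Hyp G r a) (hA : A ∈ hH.fam.C) {u z : G} (huN : u ∈
    Subgroup.normalizer (A : Set G)) (hzA : z ∈ A) (hzZ : z ∉ Z) (huz : ¬ Commute u z)
    (hu2 : Commute (u ^ 2) z) {q : ℕ} (hq : q.Prime) (hq2 : q ≠ 2) (hlq : hH.fam.Lives q)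
    (hdq : (Nat.card A).factorization q < (Nat.card G).factorization q) {t : ℕ} (ht : t.Prime)
    (htq : t ≠ q) (hlt : hH.fam.Lives t) : False := by
  set F := hH.fam
  obtain ⟨y, h, hyA, -, hyZ, -, hhq, hhN, hhout, hhy, -⟩ := F.exists_outside hA hq hlq hdq
  obtain ⟨v, hvA, hvt, hvZ⟩ := hlt A hA
  set f := QuotientGroup.mk' (Subgroup.center G)
  have hinv : ∀ x ∈ A, f u * f x * (f u)⁻¹ = (f x)⁻¹ := by
    intro x hx
    have hx' : u * x * u⁻¹ ∈ A := (Subgroup.mem_normalizer_iff.mp huN x).mp hx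
    have hc : Commute (u ^ 2) x := F.closed A hA z hzA hzZ _ hu2 x hx
    have hb : x * (u * x * u⁻¹) ∈ Z := by
      by_contra hz
      refine huz (F.closed A hA _ (mul_mem hx hx') hz u ?_ z hzA)
      refine mul_inv_eq_iff_eq_mul.mp ?_
      rw [show u * (x * (u * x * u⁻¹)) * u⁻¹ = (u * x * u⁻¹) * (u ^ 2 * x * (u ^ 2)⁻¹) by group,
        hc.eq, mul_inv_cancel_right]
      exact (F.comm A hA _ hx' x hx).eq
    rw [← QuotientGroup.ker_mk' (Subgroup.center G), MonoidHom.mem_ker] at hb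
    simp only [map_mul, map_inv] at hb
    exact eq_inv_of_mul_eq_one_right hb
  have hconj : ∀ x ∈ A, h * x * h⁻¹ ∈ A := fun x hx =>
    (Subgroup.mem_normalizer_iff.mp hhN x).mp hx
  have hh' : ∀ x ∈ A, f (u * h * u⁻¹) * f x * (f (u * h * u⁻¹))⁻¹ = f (h * x * h⁻¹) := by
    intro x hx
    have h1 : (f u)⁻¹ * f x * f u = (f x)⁻¹ := by
      calc (f u)⁻¹ * f x * f u = (f u)⁻¹ * (f x⁻¹)⁻¹ * f u := by rw [map_inv, inv_inv]
        _ = (f u)⁻¹ * (f u * f x⁻¹ * (f u)⁻¹) * f u := by rw [hinv _ (inv_mem hx)]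
        _ = (f x)⁻¹ := by rw [map_inv]; group
    calc f (u * h * u⁻¹) * f x * (f (u * h * u⁻¹))⁻¹
        = f u * (f h * ((f u)⁻¹ * f x * f u) * (f h)⁻¹) * (f u)⁻¹ := by
          simp only [map_mul, map_inv]; group
      _ = f u * (f (h * x * h⁻¹))⁻¹ * (f u)⁻¹ := by
          rw [h1]; simp only [map_mul, map_inv]; group
      _ = (f u * f (h * x * h⁻¹) * (f u)⁻¹)⁻¹ := by group
      _ = f (h * x * h⁻¹) := by rw [hinv _ (hconj x hx), inv_inv]
  -- `(u h u⁻¹) h` centralises `y`
  have hyy' : ⁅u, y⁆ * y ^ 2 ∈ Z := by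
    rw [← QuotientGroup.ker_mk' (Subgroup.center G), MonoidHom.mem_ker]
    show f _ = 1
    rw [commutatorElement_def, map_mul, map_mul, map_mul, map_mul, map_inv, map_inv, map_pow,
      hinv y hyA]
    group
  have hcom : Commute (u * h * u⁻¹ * h) y := by
    set c := u * y * u⁻¹ * y with hc
    have hcZ : c ∈ Z := by
      rw [← QuotientGroup.ker_mk' (Subgroup.center G), MonoidHom.mem_ker]
      show f _ = 1
      rw [hc, map_mul, map_mul, map_mul, map_inv, hinv y hyA, inv_mul_cancel]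
    have e1 : y = u * y⁻¹ * u⁻¹ * c := by rw [hc]; group
    have e2 : h * y * h⁻¹ = ⁅h, y⁆ * y := conj_eq_comm_mul h y
    set d := ⁅h, y⁆
    have e3 : u * h * u⁻¹ * y * (u * h * u⁻¹)⁻¹ = d⁻¹ * y := by
      conv_lhs => rw [e1]
      calc u * h * u⁻¹ * (u * y⁻¹ * u⁻¹ * c) * (u * h * u⁻¹)⁻¹
          = u * h * y⁻¹ * (u⁻¹ * c) * u * h⁻¹ * u⁻¹ := by group
        _ = u * h * y⁻¹ * (c * u⁻¹) * u * h⁻¹ * u⁻¹ := by rw [central_comm hcZ u⁻¹]
        _ = u * h * y⁻¹ * (c * h⁻¹) * u⁻¹ := by group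
        _ = u * h * y⁻¹ * (h⁻¹ * c) * u⁻¹ := by rw [central_comm hcZ h⁻¹]
        _ = u * (h * y * h⁻¹)⁻¹ * (c * u⁻¹) := by group
        _ = u * (d * y)⁻¹ * (u⁻¹ * c) := by rw [e2, central_comm hcZ u⁻¹]
        _ = u * y⁻¹ * (d⁻¹ * u⁻¹) * c := by group
        _ = u * y⁻¹ * (u⁻¹ * d⁻¹) * c := by rw [central_comm (inv_mem hhy) u⁻¹]
        _ = u * y⁻¹ * u⁻¹ * (d⁻¹ * c) := by group
        _ = u * y⁻¹ * u⁻¹ * (c * d⁻¹) := by rw [central_comm hcZ d⁻¹]
        _ = y * d⁻¹ := by rw [← mul_assoc, ← e1]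
        _ = d⁻¹ * y := central_comm (inv_mem hhy) y
    refine mul_inv_eq_iff_eq_mul.mp ?_
    calc u * h * u⁻¹ * h * y * (u * h * u⁻¹ * h)⁻¹
        = u * h * u⁻¹ * (h * y * h⁻¹) * (u * h * u⁻¹)⁻¹ := by group
      _ = (u * h * u⁻¹ * d) * y * (u * h * u⁻¹)⁻¹ := by rw [e2]; group
      _ = (d * (u * h * u⁻¹)) * y * (u * h * u⁻¹)⁻¹ := by rw [central_comm hhy]
      _ = d * (u * h * u⁻¹ * y * (u * h * u⁻¹)⁻¹) := by group
      _ = y := by rw [e3, mul_inv_cancel_left]
  have hcv := F.closed A hA y hyA hyZ _ hcom v hvA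
  have h8 : ⁅h ^ 2, v⁆ ∈ Z := by
    rw [← QuotientGroup.ker_mk' (Subgroup.center G), MonoidHom.mem_ker]
    show f _ = 1
    rw [commutatorElement_def, map_mul, map_inv, mul_inv_eq_one]
    conv_rhs => rw [← mul_inv_cancel_right v (u * h * u⁻¹ * h), ← hcv.eq]
    rw [map_mul, map_inv, map_mul, map_mul, map_mul, map_mul]
    calc f (h ^ 2) * f v * (f (h ^ 2))⁻¹
        = f (h * (h * v * h⁻¹) * h⁻¹) := by simp only [sq, map_mul, map_inv]; group
      _ = f (u * h * u⁻¹) * f (h * v * h⁻¹) * (f (u * h * u⁻¹))⁻¹ :=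
          (hh' _ (hconj v hvA)).symm
      _ = _ := by simp only [map_mul, map_inv]; group
  have h9 : Commute (h ^ 2) v := commute_of_primes hq ht (Ne.symm htq) (hhq.pow 2) hvt h8
  obtain ⟨k, hk⟩ := exists_pow_of_isPiElem_singleton hhq
  obtain ⟨m, hm⟩ := exists_pow_eq_self_of_coprime (n := 2) (x := h)
    (hk ▸ ((Nat.coprime_primes Nat.prime_two hq).mpr (Ne.symm hq2)).pow_right k)
  exact hhout v hvA hvZ (hm ▸ h9.pow_left m)

/-- The case in which `2` is not deficient. -/
theorem case_two_full (hH : Hyp G r a) (hA : A ∈ hH.fam.C) (h2 : hH.fam.Lives 2)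
    (hf2 : (Nat.card A).factorization 2 = (Nat.card G).factorization 2)
    (hdef : ∀ t : ℕ, ∃ q, q.Prime ∧ q ≠ t ∧ hH.fam.Lives q ∧
      (Nat.card A).factorization q < (Nat.card G).factorization q) : False := by
  classical
  set F := hH.fam
  haveI := Fact.mk Nat.prime_two
  set N := Subgroup.normalizer (A : Set G)
  set ρ : N →* MulAut (part A 2) := Fam.act A 2 F hA
  obtain ⟨w, hwA, hw2, hwZ⟩ := h2 A hA
  set w' : part A 2 := ⟨w, mem_part_of hwA hw2⟩
  letI : CommGroup (part A 2) :=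
    { (inferInstance : Group (part A 2)) with
      mul_comm := fun a b => Subtype.ext (F.comm A hA a (part_le A 2 a.2) b (part_le A 2 b.2)).eq }
  let M0 : Subgroup (part A 2) := (Subgroup.center G).subgroupOf (part A 2)
  have hker : ∀ g : N, ρ g = 1 → ∀ x ∈ A, Commute (g : G) x := fun g hg =>
    F.closed A hA w hwA hwZ g (mul_inv_eq_iff_eq_mul.mp
      (congrArg (fun φ : MulAut (part A 2) => ((φ w' : part A 2) : G)) hg))
  have hker' : ∀ g : N, (∀ x ∈ A, Commute (g : G) x) → ρ g = 1 := fun g hg =>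
    MulEquiv.ext fun x => Subtype.ext (by
      show (g : G) * x * (g : G)⁻¹ = x
      rw [(hg x (part_le A 2 x.2)).eq, mul_inv_cancel_right])
  have hfix : ∀ φ ∈ ρ.range, φ ≠ 1 → ∀ x, φ x = x → x ∈ M0 := by
    rintro _ ⟨g, rfl⟩ hne x hx
    rw [Subgroup.mem_subgroupOf]
    by_contra hxZ
    refine hne (hker' g ?_)
    exact F.closed A hA x (part_le A 2 x.2) hxZ g
      (mul_inv_eq_iff_eq_mul.mp (congrArg Subtype.val hx))
  have hM0 : ∀ φ ∈ ρ.range, ∀ x ∈ M0, φ x ∈ M0 := by
    rintro _ ⟨g, rfl⟩ x hx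
    rw [Subgroup.mem_subgroupOf] at hx ⊢
    show (g : G) * x * (g : G)⁻¹ ∈ Z
    exact (inferInstance : (Z).Normal).conj_mem _ hx _
  have hlast : ∀ n : ℕ, n.Prime → n ≠ 2 → ¬ w' ^ n ∈ M0 := fun n hn hn2 hm =>
    hwZ (mem_center_of_coprime_pow Nat.prime_two hn hn2 hw2 (Subgroup.mem_subgroupOf.mp hm))
  obtain ⟨q₀, hq₀, -, hl₀, hd₀⟩ := hdef 0
  obtain ⟨-, h₀, -, -, -, -, -, hh₀N, hh₀out, -, -⟩ := F.exists_outside hA hq₀ hl₀ hd₀
  haveI : Nontrivial ρ.range := by
    refine ⟨⟨⟨ρ ⟨h₀, hh₀N⟩, ⟨_, rfl⟩⟩, 1, fun e => ?_⟩⟩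
    exact hh₀out w hwA hwZ (hker ⟨h₀, hh₀N⟩ (congrArg Subtype.val e) w hwA)
  have hodd : Odd (Nat.card ρ.range) := by
    rw [← Subgroup.index_ker, Nat.odd_iff, ← Nat.two_dvd_ne_zero]
    intro hd
    have h1 : part A 2 ≤ ρ.ker.map N.subtype := fun x hx => by
      have hxA := part_le A 2 hx
      exact ⟨⟨x, Subgroup.le_normalizer hxA⟩, hker' _ (fun b hb => F.comm A hA x hxA b hb), rfl⟩
    have h2' := Subgroup.card_dvd_of_le h1
    rw [Subgroup.card_map_of_injective N.subtype_injective, F.card_part hA Nat.prime_two, hf2]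
      at h2'
    have h3 := (Nat.mul_dvd_mul h2' hd).trans ((Subgroup.card_mul_index ρ.ker).dvd.trans
      (Subgroup.card_subgroup_dvd_card N))
    rw [← pow_succ, Nat.prime_two.pow_dvd_iff_le_factorization Nat.card_pos.ne'] at h3
    omega
  obtain ⟨t, V, ht, ht2, hVn, hV, hVt, hVc⟩ := exists_normal_elementary ρ.range hodd
  haveI := Fact.mk ht
  obtain ⟨α, hαV, hα1⟩ := (Subgroup.ne_bot_iff_exists_ne_one.mp hV).elim fun α hα =>
    (⟨α.1, α.2, fun e => hα (Subtype.ext e)⟩ : ∃ α : ρ.range, α ∈ V ∧ α ≠ 1)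
  have hαo : orderOf α = t := orderOf_eq_prime (hVt α hαV) hα1
  by_cases hcyc : ∀ β ∈ V, β ∈ Subgroup.zpowers α
  swap
  · push Not at hcyc
    obtain ⟨β, hβV, hβ⟩ := hcyc
    refine hlast t ht ht2 (pow_mem_of_fixed_elementary (α : MulAut (part A 2)) β M0 ht
      (congrArg Subtype.val (hVt α hαV)) (congrArg Subtype.val (hVt β hβV))
      ((hVc α hαV β hβV).map ρ.range.subtype) ?_ ?_ w')
    · exact fun i x hx => hM0 _ (pow_mem α.2 i) x hx
    · intro i j hi hj hij x hx
      refine hfix ((α ^ i * β ^ j : ρ.range) : MulAut (part A 2)) (α ^ i * β ^ j).2 ?_ x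
        (by simpa using hx)
      intro e
      have e' : α ^ i * β ^ j = 1 := Subtype.ext e
      by_cases hj0 : j = 0
      · rw [hj0, pow_zero, mul_one] at e'
        have h3 := orderOf_dvd_of_pow_eq_one e'
        rw [hαo] at h3
        exact hij (Prod.ext (Nat.eq_zero_of_dvd_of_lt h3 hi) hj0)
      · refine hβ ?_
        have h3 : β ^ j ∈ Subgroup.zpowers α := by
          rw [eq_inv_of_mul_eq_one_right e']
          exact inv_mem (pow_mem (Subgroup.mem_zpowers _) i)
        have hβ1 : β ≠ 1 := fun e => hβ (e ▸ one_mem _)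
        obtain ⟨m, hm⟩ := exists_pow_eq_self_of_coprime (n := j) (x := β) (by
          rw [orderOf_eq_prime (hVt β hβV) hβ1]
          exact (ht.coprime_iff_not_dvd.mpr fun hd =>
            hj0 (Nat.eq_zero_of_dvd_of_lt hd hj)).symm)
        exact hm ▸ pow_mem h3 m
  · obtain ⟨q, hq, hqt, hlq, hdq⟩ := hdef t
    obtain ⟨y, h, hyA, hyq, hyZ, -, -, hhN, hhout, hhy, hhpow⟩ := F.exists_outside hA hq hlq hdq
    obtain ⟨g, hg⟩ := α.2
    set β : ρ.range := ⟨ρ ⟨h, hhN⟩, ⟨_, rfl⟩⟩ with hβdef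
    have hβ1 : β ≠ 1 := fun e =>
      hhout w hwA hwZ (hker ⟨h, hhN⟩ (congrArg Subtype.val e) w hwA)
    have hβq : β ^ q = 1 := Subtype.ext (by
      rw [Subgroup.coe_pow, hβdef, ← map_pow]
      exact hker' _ fun x _ => (commute_of_mem_center hhpow x).symm)
    obtain ⟨j, hj⟩ := (Submonoid.mem_powers_iff _ _).mp
      (mem_powers_iff_mem_zpowers.mpr (hcyc _ (hVn.conj_mem α hαV β)))
    by_cases hj1 : j % t = 1
    · have hcomm : β * α = α * β := by
        rw [← pow_mod_orderOf, hαo, hj1, pow_one] at hj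
        exact mul_inv_eq_iff_eq_mul.mp hj.symm
      have hk := hker ((g * ⟨h, hhN⟩)⁻¹ * (⟨h, hhN⟩ * g)) (by
        rw [map_mul, map_inv, map_mul, map_mul, hg, inv_mul_eq_one]
        exact (congrArg Subtype.val hcomm).symm) y hyA
      have hgA : (g : G) * y * (g : G)⁻¹ ∈ A := (Subgroup.mem_normalizer_iff.mp g.2 y).mp hyA
      have hk' : h * ((g : G) * y * (g : G)⁻¹) * h⁻¹ = (g : G) * (h * y * h⁻¹) * (g : G)⁻¹ := by
        simp only [Subgroup.coe_mul, Subgroup.coe_inv] at hk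
        set k := ((g : G) * h)⁻¹ * (h * g) with hkdef
        calc h * ((g : G) * y * (g : G)⁻¹) * h⁻¹ = (g : G) * h * (k * y * k⁻¹) * h⁻¹ * (g : G)⁻¹ := by
              rw [hkdef]; group
          _ = (g : G) * (h * y * h⁻¹) * (g : G)⁻¹ := by
              rw [hk.eq, mul_inv_cancel_right]; group
      have hgy : ⁅(g : G), y⁆ ∈ Z := by
        by_contra hz
        refine hhout _ (by rw [commutatorElement_def]; exact mul_mem hgA (inv_mem hyA)) hz
          (mul_inv_eq_iff_eq_mul.mp ?_)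
        calc h * ⁅(g : G), y⁆ * h⁻¹
            = (h * ((g : G) * y * (g : G)⁻¹) * h⁻¹) * (h * y * h⁻¹)⁻¹ := by
              rw [commutatorElement_def]; group
          _ = ((g : G) * ⁅h, y⁆) * (y * (g : G)⁻¹) * (⁅h, y⁆ * y)⁻¹ := by
              rw [hk', conj_eq_comm_mul h y]; group
          _ = (⁅h, y⁆ * (g : G)) * (y * (g : G)⁻¹) * (y⁻¹ * ⁅h, y⁆⁻¹) := by
              rw [central_comm hhy, mul_inv_rev]
          _ = ⁅h, y⁆ * ⁅(g : G), y⁆ * ⁅h, y⁆⁻¹ := by
              rw [commutatorElement_def (g : G)]; group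
          _ = ⁅(g : G), y⁆ := by
              rw [← central_comm hhy, mul_inv_cancel_right]
      have hgt : Commute ((g : G) ^ t) y := by
        refine hker (g ^ t) ?_ y hyA
        rw [map_pow, hg]
        exact congrArg Subtype.val (hVt α hαV)
      obtain ⟨k, hk2⟩ := exists_pow_orderOf hyq
      have h6 : ⁅(g : G), y⁆ = 1 := by
        refine orderOf_eq_one_iff.mp (Nat.eq_one_of_dvd_coprimes
          (((Nat.coprime_primes ht hq).mpr (Ne.symm hqt)).pow_right k)
          (orderOf_dvd_of_pow_eq_one ?_) (orderOf_dvd_of_pow_eq_one (comm_pow_right hgy hk2)))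
        have h7 := conj_pow_left hgy t
        rw [hgt.eq, mul_inv_cancel_right] at h7
        exact mul_eq_right.mp h7.symm
      refine hα1 (Subtype.ext ?_)
      rw [← hg]
      exact hker' g (F.closed A hA y hyA hyZ _ (commutatorElement_eq_one_iff_commute.mp h6))
    · have hjq : j ^ q % t = 1 := by
        have hit : ∀ i : ℕ, β ^ i * α * (β ^ i)⁻¹ = α ^ (j ^ i) := by
          intro i
          induction i with
          | zero => simp
          | succ i ih =>
            calc β ^ (i + 1) * α * (β ^ (i + 1))⁻¹ = β * (β ^ i * α * (β ^ i)⁻¹) * β⁻¹ := by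
                  rw [pow_succ']; group
              _ = (β * α * β⁻¹) ^ (j ^ i) := by rw [ih, conj_pow]
              _ = α ^ (j ^ (i + 1)) := by rw [← hj, ← pow_mul, pow_succ']
        have h1 := hit q
        rw [hβq, one_mul, inv_one, mul_one] at h1
        conv_lhs at h1 => rw [← pow_one α]
        rw [pow_eq_pow_iff_modEq, hαo] at h1
        have h1' : j ^ q % t = 1 % t := h1.symm
        rw [h1', Nat.mod_eq_of_lt ht.one_lt]
      refine hlast t ht ht2 (pow_mem_of_fixed_frobenius (α : MulAut (part A 2)) β M0 ht hq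
        (congrArg Subtype.val (hVt α hαV)) (congrArg Subtype.val hβq)
        (congrArg Subtype.val hj).symm hjq hj1 (hfix _ α.2 fun e => hα1 (Subtype.ext e)) ?_ w')
      intro i x hx
      refine hfix ((α ^ i * β * (α ^ i)⁻¹ : ρ.range) : MulAut (part A 2)) (α ^ i * β * (α ^ i)⁻¹).2
        ?_ x (by simpa using hx)
      intro e
      have e' : α ^ i * β * (α ^ i)⁻¹ = 1 := Subtype.ext e
      exact hβ1 (by simpa [mul_inv_eq_one] using e')

end Cases

/-- At least two primes have smaller part in the components. -/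
theorem two_deficient (hH : Hyp G r a) (hG : ¬ Group.IsSolvable G) {s t : ℕ} (hs : s.Prime)
    (ht : t.Prime) (hst : s ≠ t) (hls : hH.fam.Lives s) (hlt : hH.fam.Lives t) {w : G}
    (hwZ : w ∉ Z) (hwr : IsPiElem ({r}ᶜ : Set ℕ) w) (x₀ : ℕ) :
    ∃ q, q.Prime ∧ q ≠ x₀ ∧ hH.fam.Lives q ∧
      a.factorization q < (Nat.card G).factorization q := by
  set F := hH.fam
  have hrad : ∀ (N : Subgroup G), N.Normal → Group.IsSolvable N → ∀ x ∈ N,
      IsPiElem ({r}ᶜ : Set ℕ) x → x ∉ Z → False := fun N hN hNs x hx hxr hxZ =>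
    hG (hH.radical hs ht hst hls hlt hN hNs hx hxr hxZ).1
  have hfull : ∀ q : ℕ, q.Prime → q ≠ r →
      ¬ a.factorization q < (Nat.card G).factorization q →
      a.factorization q = (Nat.card G).factorization q := by
    intro q _ hqr hq
    refine le_antisymm ?_ (not_lt.mp hq)
    rw [← hH.factorization_cent hwZ hwr hqr]
    exact (Nat.factorization_le_iff_dvd Nat.card_pos.ne' Nat.card_pos.ne').mpr
      (Subgroup.card_subgroup_dvd_card _) q
  by_contra hno
  push Not at hno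
  have honly : ∀ q : ℕ, q.Prime → q ≠ r → a.factorization q < (Nat.card G).factorization q →
      q = x₀ := fun q hq hqr hd => by
    by_contra hne
    exact absurd (hno q hq hne (hH.lives_of_deficient hwZ hwr hq hqr hd)) (not_le.mpr hd)
  have hidx : ∀ (H : Subgroup G) (q : ℕ),
      (Nat.card H).factorization q = (Nat.card G).factorization q →
      H.index.factorization q = 0 := by
    intro H q hq
    have := congrArg (fun n : ℕ => n.factorization q) (Subgroup.card_mul_index H)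
    simp only [Nat.factorization_mul Nat.card_pos.ne' Subgroup.index_ne_zero_of_finite,
      Finsupp.add_apply, hq] at this
    omega
  by_cases hd : x₀.Prime ∧ x₀ ≠ r ∧ a.factorization x₀ < (Nat.card G).factorization x₀
  · obtain ⟨hx₀, hx₀r, hdx₀⟩ := hd
    haveI := Fact.mk hx₀
    obtain ⟨v, -, hvq, hvZ⟩ :=
      hH.lives_of_deficient hwZ hwr hx₀ hx₀r hdx₀ _ (hH.comp_mem hwZ hwr).1
    obtain ⟨P, hP⟩ : ∃ P : Sylow x₀ G, v ∈ P := by
      obtain ⟨k, hk⟩ := exists_pow_of_isPiElem_singleton hvq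
      obtain ⟨P, hP⟩ :=
        (IsPGroup.of_card (n := k) (G := Subgroup.zpowers v) (by rw [Nat.card_zpowers, hk])).exists_le_sylow
      exact ⟨P, hP (Subgroup.mem_zpowers _)⟩
    set f := QuotientGroup.mk' (Subgroup.center G) with hf
    set Q := (P : Subgroup G).map f with hQ
    haveI : Nontrivial Q := (Subgroup.nontrivial_iff_ne_bot Q).mpr fun e => hvZ (by
      have h1 : f v ∈ Q := Subgroup.mem_map_of_mem f hP
      rw [e, Subgroup.mem_bot] at h1
      exact (QuotientGroup.eq_one_iff v).mp h1)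
    haveI := (P.isPGroup'.map f).center_nontrivial
    obtain ⟨⟨⟨_, x, hxP, rfl⟩, hc⟩, hne⟩ := exists_ne (1 : Subgroup.center Q)
    have hxZ : x ∉ Z := fun h => hne (Subtype.ext (Subtype.ext
      ((QuotientGroup.eq_one_iff x).mpr h)))
    have hxq : IsPiElem {x₀} x := by
      obtain ⟨k, hk⟩ := P.isPGroup' ⟨x, hxP⟩
      exact isPiElem_of_pow hx₀ (congrArg Subtype.val hk)
    have hxr : IsPiElem ({r}ᶜ : Set ℕ) x := hxq.mono (sub_compl hx₀r)
    have hP' : (P : Subgroup G) ≤ stab x := fun p hp => by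
      have h1 : f p * f x = f x * f p := congrArg Subtype.val
        (Subgroup.mem_center_iff.mp hc ⟨f p, Subgroup.mem_map_of_mem f hp⟩)
      rw [mem_stab, ← QuotientGroup.ker_mk' (Subgroup.center G), MonoidHom.mem_ker, ← hf]
      rw [commutatorElement_def, map_mul, map_mul, map_mul, map_inv, map_inv, h1]
      group
    have hcom : (Subgroup.centralizer ({f x} : Set (G ⧸ Subgroup.center G))).comap f = stab x := by
      ext g
      rw [Subgroup.mem_comap, mem_cent_iff, mem_stab, ← commutatorElement_eq_one_iff_commute,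
        ← map_commutatorElement]
      exact QuotientGroup.eq_one_iff _
    obtain ⟨k, hk⟩ := exists_eq_pow (r := r)
      (n := (Subgroup.centralizer ({f x} : Set (G ⧸ Subgroup.center G))).index)
      Subgroup.index_ne_zero_of_finite (fun q hq hqr => by
        rw [← Subgroup.index_comap_of_surjective _ (QuotientGroup.mk'_surjective _), ← hf, hcom]
        refine hidx _ q ?_
        refine le_antisymm ((Nat.factorization_le_iff_dvd Nat.card_pos.ne' Nat.card_pos.ne').mpr
          (Subgroup.card_subgroup_dvd_card _) q) ?_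
        by_cases hqx : q = x₀
        · subst hqx
          have h1 := Subgroup.card_dvd_of_le hP'
          rw [P.card_eq_multiplicity] at h1
          exact (hq.pow_dvd_iff_le_factorization Nat.card_pos.ne').mp h1
        · rw [← hfull q hq hqr (fun h => hqx (honly q hq hqr h)),
            ← hH.factorization_cent hxZ hxr hqr]
          refine (Nat.factorization_le_iff_dvd Nat.card_pos.ne' Nat.card_pos.ne').mpr
            (Subgroup.card_dvd_of_le fun g hg => ?_) q
          rw [mem_stab, commutatorElement_eq_one_iff_commute.mpr (mem_cent_iff.mp hg)]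
          exact one_mem _)
    haveI := Kazarin19.isSolvable_normalClosure (f x) hH.prime hk
    set W := Subgroup.normalClosure ({f x} : Set (G ⧸ Subgroup.center G))
    refine hrad (W.comap f) inferInstance ?_ x (Subgroup.subset_normalClosure rfl) hxr hxZ
    haveI : Group.IsSolvable (Subgroup.center G) := Group.isSolvable_of_comm fun a b =>
      Subtype.ext (Subgroup.mem_center_iff.mp b.2 a.1)
    refine Group.isSolvable_of_ker_le_range
      (Subgroup.inclusion (show Subgroup.center G ≤ W.comap f from fun z hz => by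
        rw [Subgroup.mem_comap, show f z = 1 from (QuotientGroup.eq_one_iff z).mpr hz]
        exact one_mem _)) (f.subgroupComap W) ?_
    intro z hz
    rw [Subgroup.inclusion_range, Subgroup.mem_subgroupOf]
    exact (QuotientGroup.eq_one_iff (z : G)).mp (congrArg Subtype.val hz)
  · obtain ⟨k, hk⟩ := exists_eq_pow (r := r)
      (n := (Subgroup.centralizer ({w} : Set G)).index) Subgroup.index_ne_zero_of_finite
      fun q hq hqr => hidx _ q (by
        rw [hH.factorization_cent hwZ hwr hqr]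
        exact hfull q hq hqr fun hlt' => hd ⟨honly q hq hqr hlt' ▸ hq, honly q hq hqr hlt' ▸ hqr,
          honly q hq hqr hlt' ▸ hlt'⟩)
    exact hrad _ Subgroup.normalClosure_normal (Kazarin19.isSolvable_normalClosure w hH.prime hk) w
      (Subgroup.subset_normalClosure rfl) hwr hwZ

/-- A group satisfying the hypothesis is solvable. -/
theorem isSolvable (hH : Hyp G r a) : Group.IsSolvable G := by
  classical
  by_contra hG
  set F := hH.fam
  obtain ⟨s, hs, hsr, -, x, hxs, hxZ⟩ := exists_third_prime hG r r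
  obtain ⟨t, ht, htr, hts, x', hxt, hx'Z⟩ := exists_third_prime hG r s
  have hls : F.Lives s := hH.lives_of_noncentral hs hsr hxs hxZ
  have hlt : F.Lives t := hH.lives_of_noncentral ht htr hxt hx'Z
  have hdef := hH.two_deficient hG hs ht (Ne.symm hts) hls hlt hxZ (hxs.mono (sub_compl hsr))
  have hcard : ∀ A ∈ F.C, Nat.card A = a := by
    rintro A ⟨w, hw, hwr, rfl⟩; exact hH.card_comp hw hwr
  by_cases hr2 : r = 2
  · obtain ⟨p, z, u, hp, hp2, hzp, hzZ, -, hc, huz, hu2⟩ := exists_real_mod_center hG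
    have hpr : p ≠ r := hr2 ▸ hp2
    obtain ⟨hA, hzA⟩ := hH.comp_mem hzZ (hzp.mono (sub_compl hpr))
    obtain ⟨q, hq, -, hlq, hdq⟩ := hdef 0
    have hqr := hH.ne_of_lives hA hq hlq
    have huN : u ∈ Subgroup.normalizer (comp r z : Set G) := by
      refine F.mem_normalizer_of_conj hA hzA hzZ
        (mem_comp_of ?_ ((isPiElem_conj_iff u z).mpr (hzp.mono (sub_compl hpr))))
      have h1 : u * z * u⁻¹ = (u * z * u⁻¹ * z) * z⁻¹ := by group
      rw [h1]
      exact ((commute_of_mem_center hc z).symm).mul_left (Commute.refl z).inv_left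
    obtain ⟨t', ht', htq, hlt'⟩ : ∃ t', t'.Prime ∧ t' ≠ q ∧ F.Lives t' := by
      by_cases e : s = q
      · exact ⟨t, ht, fun e' => hts (e'.trans e.symm), hlt⟩
      · exact ⟨s, hs, e, hls⟩
    exact hH.case_r_two hA huN hzA hzZ huz hu2 hq (hr2 ▸ hqr) hlq ((hcard _ hA).symm ▸ hdq) ht'
      htq hlt'
  · obtain ⟨hA, -⟩ := hH.comp_mem hxZ (hxs.mono (sub_compl hsr))
    have hl2 : F.Lives 2 := by
      by_contra hno
      refine hG (isSolvable_of_quotient_center (Cfsg.Agent.PF14.feitThompson _ ?_))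
      rw [← Nat.not_even_iff_odd, even_iff_two_dvd]
      intro hd
      obtain ⟨e, he, heZ⟩ := exists_noncentral Nat.prime_two hd
      exact hno (hH.lives_of_noncentral Nat.prime_two (Ne.symm hr2) he heZ)
    by_cases hd2 : a.factorization 2 < (Nat.card G).factorization 2
    · obtain ⟨q, hq, hq2, hlq, hdq⟩ := hdef 2
      exact hH.case_two_deficient hA hl2 ((hcard _ hA).symm ▸ hd2) hq hq2 hlq
        ((hcard _ hA).symm ▸ hdq)
    · refine hH.case_two_full hA hl2 ?_ fun t => ?_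
      · refine le_antisymm ((Nat.factorization_le_iff_dvd Nat.card_pos.ne' Nat.card_pos.ne').mpr
          (Subgroup.card_subgroup_dvd_card _) 2) ?_
        rw [hcard _ hA]; exact not_lt.mp hd2
      · obtain ⟨q, hq, hqt, hlq, hdq⟩ := hdef t
        exact ⟨q, hq, hqt, hlq, (hcard _ hA).symm ▸ hdq⟩

/-- With two living primes the components have full order. -/
theorem eq_ordCompl (hH : Hyp G r a) {s t : ℕ} (hs : s.Prime) (ht : t.Prime) (hst : s ≠ t)
    (hsr : s ≠ r) (htr : t ≠ r) {x y : G} (hx : IsPiElem {s} x) (hxZ : x ∉ Z)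
    (hy : IsPiElem {t} y) (hyZ : y ∉ Z) : a = ordCompl[r] (Nat.card G) := by
  haveI := hH.isSolvable
  exact (hH.radical hs ht hst (hH.lives_of_noncentral hs hsr hx hxZ)
    (hH.lives_of_noncentral ht htr hy hyZ) (N := ⊤) inferInstance inferInstance
    (Subgroup.mem_top x) (hx.mono (sub_compl hsr)) hxZ).2

end Hyp

end Cfsg.Agent.ConjRank
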