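import Cfsg.Agent.ConjRank.Comp

/-!
Groups in which, for noncentral elements `w` of order prime to `r`, the `r'`-elements of `C(w)` are
central in `C(w)` and their number is constant.
-/

set_option autoImplicit false
set_option maxHeartbeats 400000

open scoped commutatorElement
open Cfsg.Agent.FG78

namespace Cfsg.Agent.ConjRank

universe u

variable {G : Type u} [Group G]

local notation "Z" => Subgroup.center G

theorem sub_compl {t r : ℕ} (h : t ≠ r) : ({t} : Set ℕ) ⊆ ({r}ᶜ : Set ℕ) := by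
  intro x hx e
  exact h ((Set.mem_singleton_iff.mp hx).symm.trans (Set.mem_singleton_iff.mp e))

/-- The hypothesis on centralisers. -/
structure Hyp (G : Type u) [Group G] (r a : ℕ) : Prop where
  prime : r.Prime
  central : ∀ w : G, w ∉ Subgroup.center G → IsPiElem ({r}ᶜ : Set ℕ) w →
    ∀ g : G, Commute g w → IsPiElem ({r}ᶜ : Set ℕ) g → ∀ h : G, Commute h w → Commute g h
  card : ∀ w : G, w ∉ Subgroup.center G → IsPiElem ({r}ᶜ : Set ℕ) w →
    ordCompl[r] (Nat.card (Subgroup.centralizer ({w} : Set G))) = a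

theorem isSolvable_pGroup_quotient [Finite G] {r : ℕ} (hr : r.Prime) (L : Subgroup G) [L.Normal]
    (hL : Group.IsSolvable L) (h : ∀ g, IsPiElem ({r}ᶜ : Set ℕ) g → g ∈ L) :
    Group.IsSolvable G ∧ ∃ k, L.index = r ^ k := by
  haveI := Fact.mk hr
  have hp : IsPGroup r (G ⧸ L) := by
    intro x
    obtain ⟨g, rfl⟩ := QuotientGroup.mk'_surjective L x
    obtain ⟨k, hk⟩ := exists_pow_orderOf (isPiElem_piPart {r} g)
    refine ⟨k, ?_⟩
    conv_lhs => rw [← piPart_mul_piPart' {r} g, map_mul,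
      show QuotientGroup.mk' L (piPart' {r} g) = 1 from
        (QuotientGroup.eq_one_iff _).mpr (h _ (isPiElem_piPart' _ _)), mul_one, ← map_pow, hk,
        map_one]
  refine ⟨?_, ?_⟩
  · haveI := hL
    haveI := hp.isNilpotent
    haveI : Group.IsSolvable (G ⧸ L) := inferInstance
    exact Group.isSolvable_of_ker_le_range L.subtype (QuotientGroup.mk' L)
      (by rw [QuotientGroup.ker_mk', Subgroup.range_subtype])
  · obtain ⟨k, hk⟩ := hp.exists_card_eq
    exact ⟨k, by rw [Subgroup.index_eq_card, hk]⟩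

theorem factorization_eq_of_forall_mem [Finite G] {H K : Subgroup G} (hle : H ≤ K) {t : ℕ}
    (ht : t.Prime) (h : ∀ x ∈ K, IsPiElem {t} x → x ∈ H) :
    (Nat.card H).factorization t = (Nat.card K).factorization t := by
  haveI := Fact.mk ht
  refine le_antisymm ((Nat.factorization_le_iff_dvd Nat.card_pos.ne' Nat.card_pos.ne').mpr
    (Subgroup.card_dvd_of_le hle) t) ?_
  obtain ⟨T⟩ := (inferInstance : Nonempty (Sylow t K))
  have h1 : (T : Subgroup K).map K.subtype ≤ H := by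
    rintro _ ⟨x, hx, rfl⟩
    obtain ⟨k, hk⟩ := T.isPGroup' ⟨x, hx⟩
    exact h _ x.2 (isPiElem_of_pow ht (k := k)
      (congrArg (fun y : (T : Subgroup K) => ((y : K) : G)) hk))
  have h2 := Subgroup.card_dvd_of_le h1
  rw [Subgroup.card_map_of_injective K.subtype_injective, T.card_eq_multiplicity] at h2
  exact (ht.pow_dvd_iff_le_factorization Nat.card_pos.ne').mp h2

/-- `r'`-elements centralising `w`. -/
def comp (r : ℕ) (w : G) : Subgroup G :=
  Subgroup.closure {g : G | Commute g w ∧ IsPiElem ({r}ᶜ : Set ℕ) g}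

theorem mem_comp_of {r : ℕ} {w g : G} (h1 : Commute g w) (h2 : IsPiElem ({r}ᶜ : Set ℕ) g) :
    g ∈ comp r w := Subgroup.subset_closure ⟨h1, h2⟩

namespace Hyp

variable [Finite G] {r a : ℕ}

theorem mem_comp (hH : Hyp G r a) {w g : G} (hw : w ∉ Z) (hwr : IsPiElem ({r}ᶜ : Set ℕ) w) :
    g ∈ comp r w ↔ Commute g w ∧ IsPiElem ({r}ᶜ : Set ℕ) g := by
  refine ⟨fun h => ?_, fun h => mem_comp_of h.1 h.2⟩
  induction h using Subgroup.closure_induction with
  | mem x hx => exact hx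
  | one => exact ⟨Commute.one_left _, IsPiElem.one _⟩
  | mul x y _ _ hx hy =>
    exact ⟨hx.1.mul_left hy.1, hx.2.mul hy.2 (hH.central w hw hwr x hx.1 hx.2 y hy.1)⟩
  | inv x _ hx => exact ⟨hx.1.inv_left, hx.2.inv⟩

theorem card_comp (hH : Hyp G r a) {w : G} (hw : w ∉ Z) (hwr : IsPiElem ({r}ᶜ : Set ℕ) w) :
    Nat.card (comp r w) = a := by
  have hr := hH.prime
  haveI := Fact.mk hr
  rw [← hH.card w hw hwr]
  refine Nat.eq_of_factorization_eq Nat.card_pos.ne' (Nat.ordCompl_pos r Nat.card_pos.ne').ne'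
    fun t => ?_
  rw [Nat.factorization_ordCompl]
  by_cases htr : t = r
  · rw [htr, Finsupp.erase_same]
    refine Nat.factorization_eq_zero_of_not_dvd fun hd => ?_
    obtain ⟨x, hx⟩ := exists_prime_orderOf_dvd_card' r hd
    exact ((hH.mem_comp hw hwr).mp x.2).2 r hr
      (by rw [← Subgroup.orderOf_coe, hx] at *) rfl
  · rw [Finsupp.erase_ne htr]
    by_cases ht : t.Prime
    · refine factorization_eq_of_forall_mem
        (fun g hg => mem_cent_iff.mpr ((hH.mem_comp hw hwr).mp hg).1) ht fun x hx hxt => ?_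
      exact mem_comp_of (mem_cent_iff.mp hx) (hxt.mono (sub_compl htr))
    · rw [Nat.factorization_eq_zero_of_not_prime _ ht, Nat.factorization_eq_zero_of_not_prime _ ht]

/-- The system of components. -/
def fam (hH : Hyp G r a) : Fam G where
  π := {r}ᶜ
  C := {B | ∃ w : G, w ∉ Z ∧ IsPiElem ({r}ᶜ : Set ℕ) w ∧ B = comp r w}
  comm := by
    rintro _ ⟨w, hw, hwr, rfl⟩ x hx y hy
    rw [hH.mem_comp hw hwr] at hx hy
    exact hH.central w hw hwr x hx.1 hx.2 y hy.1
  pi := by
    rintro _ ⟨w, hw, hwr, rfl⟩ x hx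
    exact ((hH.mem_comp hw hwr).mp hx).2
  closed := by
    rintro _ ⟨w, hw, hwr, rfl⟩ v hv hvZ g hg x hx
    rw [hH.mem_comp hw hwr] at hv hx
    exact (hH.central v hvZ hv.2 x (hH.central w hw hwr x hx.1 hx.2 v hv.1) hx.2 g hg).symm
  mem := by
    rintro _ ⟨w, hw, hwr, rfl⟩ g hg h
    exact mem_comp_of (h w (mem_comp_of (Commute.refl w) hwr)) hg
  conj := by
    rintro _ ⟨w, hw, hwr, rfl⟩ g
    refine ⟨g * w * g⁻¹, conj_not_central hw, (isPiElem_conj_iff g w).mpr hwr, ?_⟩
    ext x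
    rw [mem_cj, hH.mem_comp hw hwr,
      hH.mem_comp (conj_not_central hw) ((isPiElem_conj_iff g w).mpr hwr)]
    refine and_congr ⟨fun h => ?_, fun h => ?_⟩ ⟨fun h => ?_, fun h => ?_⟩
    · have := h.map (MulAut.conj g).toMonoidHom
      simpa [mul_assoc] using this
    · have := h.map (MulAut.conj g⁻¹).toMonoidHom
      simpa [mul_assoc] using this
    · have := (isPiElem_conj_iff g _).mpr h
      simpa [mul_assoc] using this
    · have := (isPiElem_conj_iff g⁻¹ x).mpr h
      simpa using this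
  card := by
    rintro _ ⟨w, hw, hwr, rfl⟩ _ ⟨v, hv, hvr, rfl⟩
    rw [hH.card_comp hw hwr, hH.card_comp hv hvr]

theorem comp_mem (hH : Hyp G r a) {w : G} (hw : w ∉ Z) (hwr : IsPiElem ({r}ᶜ : Set ℕ) w) :
    comp r w ∈ hH.fam.C ∧ w ∈ comp r w :=
  ⟨⟨w, hw, hwr, rfl⟩, mem_comp_of (Commute.refl w) hwr⟩

theorem lives_of_noncentral (hH : Hyp G r a) {t : ℕ} (ht : t.Prime) (htr : t ≠ r) {w : G}
    (hw : IsPiElem {t} w) (hwZ : w ∉ Z) : hH.fam.Lives t :=
  have h := hH.comp_mem hwZ (hw.mono (sub_compl htr))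
  hH.fam.lives_of_exists h.1 ht h.2 hw hwZ

theorem ne_of_lives (hH : Hyp G r a) {A : Subgroup G} (hA : A ∈ hH.fam.C) {t : ℕ} (ht : t.Prime)
    (hl : hH.fam.Lives t) : t ≠ r :=
  hH.fam.mem_pi_of_lives hA ht hl

/-- A solvable normal subgroup with a noncentral `r'`-element forces solvability. -/
theorem radical (hH : Hyp G r a) {s t : ℕ} (hs : s.Prime) (ht : t.Prime) (hst : s ≠ t)
    (hls : hH.fam.Lives s) (hlt : hH.fam.Lives t) {N : Subgroup G} (hN : N.Normal)
    (hNs : Group.IsSolvable N) {x : G} (hx : x ∈ N) (hxr : IsPiElem ({r}ᶜ : Set ℕ) x)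
    (hxZ : x ∉ Z) : Group.IsSolvable G ∧ a = ordCompl[r] (Nat.card G) := by
  classical
  set F := hH.fam
  have hex : ∃ n, ∃ M : Subgroup G, M.Normal ∧ Group.IsSolvable M ∧
      (∃ y ∈ M, IsPiElem ({r}ᶜ : Set ℕ) y ∧ y ∉ Z) ∧ Nat.card M = n :=
    ⟨_, N, hN, hNs, ⟨x, hx, hxr, hxZ⟩, rfl⟩
  obtain ⟨N, hNn, hNs, ⟨y, hy, hyr, hyZ⟩, hNc⟩ := Nat.find_spec hex
  haveI := hNn
  haveI := hNs
  set D : Subgroup G := ⁅N, N⁆
  haveI hDn : D.Normal := inferInstance
  have hlt' : ∀ H : Subgroup G, Group.IsSolvable H → H ≠ ⊥ → ⁅H, H⁆ < H := by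
    intro H hH' hne
    haveI := hH'
    haveI := (Subgroup.nontrivial_iff_ne_bot H).mpr hne
    refine lt_of_le_of_ne (Subgroup.commutator_le_self H) fun e => ?_
    refine (Group.IsSolvable.commutator_lt_top_of_nontrivial H).ne ?_
    refine Subgroup.map_injective H.subtype_injective ?_
    rw [Subgroup.map_subtype_commutator, e, ← MonoidHom.range_eq_map, Subgroup.range_subtype]
  have hDN : D < N := hlt' N hNs fun e => hyZ (by
    rw [e, Subgroup.mem_bot] at hy
    exact hy ▸ one_mem _)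
  haveI hDs : Group.IsSolvable D :=
    Group.isSolvable_of_isSolvable_injective (Subgroup.inclusion_injective hDN.le)
  have hDZ : ∀ z ∈ D, IsPiElem ({r}ᶜ : Set ℕ) z → z ∈ Z := by
    intro z hz hzr
    by_contra hzZ
    refine Nat.find_min hex (m := Nat.card D) ?_ ⟨D, hDn, hDs, ⟨z, hz, hzr, hzZ⟩, rfl⟩
    rw [← hNc]
    exact Set.Finite.card_lt_card (Set.toFinite _) hDN
  -- a primary element
  obtain ⟨τ, hτ, hvZ, hvτ, hτd⟩ := exists_primary hyZ
  set v := piPart {τ} y
  have hτr : τ ≠ r := fun e => hyr τ hτ hτd e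
  have hlτ : F.Lives τ := hH.lives_of_noncentral hτ hτr hvτ hvZ
  haveI := Fact.mk hτ
  obtain ⟨T, hT⟩ : ∃ T : Sylow τ N, (⟨v, piPart_mem _ _ hy⟩ : N) ∈ (T : Subgroup N) := by
    obtain ⟨k, hk⟩ := exists_pow_of_isPiElem_singleton hvτ
    obtain ⟨T, hT⟩ := (IsPGroup.of_card (n := k) (G := Subgroup.zpowers (⟨v, piPart_mem _ _ hy⟩ : N))
      (by rw [Nat.card_zpowers, Subgroup.orderOf_mk, hk])).exists_le_sylow
    exact ⟨T, hT (Subgroup.mem_zpowers _)⟩
  set T' : Subgroup G := (T : Subgroup N).map N.subtype with hT'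
  have hT'N : T' ≤ N := Subgroup.map_subtype_le _
  have hT'p : IsPGroup τ T' := T.isPGroup'.map _
  set M := Subgroup.normalizer (T' : Set G) with hM
  -- Frattini
  have hDM : D ⊔ M = ⊤ := by
    set K : Subgroup G := D ⊔ T' with hK
    have hKN : K ≤ N := sup_le hDN.le hT'N
    haveI hKn : K.Normal := by
      refine ⟨fun z hz g => ?_⟩
      obtain ⟨n, hn⟩ := MulAction.exists_smul_eq N T
        ((MulAut.conjNormal (H := N) g) • T : Sylow τ N)
      obtain ⟨d, hd, c, hc, rfl⟩ := Subgroup.mem_sup_of_normal_left.mp hz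
      rw [show g * (d * c) * g⁻¹ = (g * d * g⁻¹) * (g * c * g⁻¹) by group]
      refine mul_mem (Subgroup.mem_sup_left (hDn.conj_mem d hd g)) ?_
      obtain ⟨c', hc', rfl⟩ := hc
      have h1 : (MulAut.conjNormal (H := N) g) • c' ∈
          (((MulAut.conjNormal (H := N) g) • T : Sylow τ N) : Subgroup N) :=
        Subgroup.smul_mem_pointwise_smul _ _ _ hc'
      rw [← hn] at h1
      obtain ⟨e, he, he'⟩ := h1
      have he'' : (n : G) * e * (n : G)⁻¹ = g * c' * g⁻¹ := congrArg Subtype.val he'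
      show g * c' * g⁻¹ ∈ K
      rw [← he'', conj_eq_comm_mul]
      exact mul_mem (Subgroup.mem_sup_left (Subgroup.commutator_mem_commutator n.2 e.2))
        (Subgroup.mem_sup_right ⟨e, he, rfl⟩)
    have hTK : T' ≤ K := le_sup_right
    have hnd : ∀ R : Subgroup G, R ≤ N → IsPGroup τ R → Nat.card R ≤ Nat.card T' := by
      intro R hR hRp
      obtain ⟨R', hR'⟩ := (hRp.comap_subtype (K := N)).exists_le_sylow
      calc Nat.card R = Nat.card (R.subgroupOf N) :=
            (Nat.card_congr (Subgroup.subgroupOfEquivOfLe hR).toEquiv).symm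
        _ ≤ Nat.card (R' : Subgroup N) := Subgroup.card_le_of_le hR'
        _ = Nat.card T' := by
          rw [hT', Subgroup.card_map_of_injective N.subtype_injective, R'.card_eq_multiplicity,
            T.card_eq_multiplicity]
    let TK : Sylow τ K :=
      { toSubgroup := T'.subgroupOf K
        isPGroup' := hT'p.comap_subtype
        is_maximal' := fun {R} hR hle => by
          refine (Subgroup.eq_of_le_of_card_ge hle ?_).symm
          rw [Nat.card_congr (Subgroup.subgroupOfEquivOfLe hTK).toEquiv,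
            ← Subgroup.card_map_of_injective K.subtype_injective]
          exact hnd _ ((Subgroup.map_subtype_le _).trans hKN) (hR.map _) }
    have h1 := Sylow.normalizer_sup_eq_top TK
    rw [show (TK : Subgroup K).map K.subtype = T' from Subgroup.map_subgroupOf_eq_of_le hTK,
      ← hM, hK] at h1
    rw [← h1]
    refine le_antisymm (sup_le (le_sup_right.trans' le_sup_left) le_sup_left) ?_
    exact sup_le le_sup_right (sup_le le_sup_left (Subgroup.le_normalizer.trans le_sup_right))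
  -- last noncentral term
  have hexV : ∃ n, ∃ V : Subgroup G, V ≤ T' ∧ (∀ m ∈ M, cj m V = V) ∧ ¬ V ≤ Z ∧ Nat.card V = n :=
    ⟨_, T', le_rfl, fun m hm => cj_eq_of_mem_normalizer hm,
      fun h => hvZ (h ⟨_, hT, rfl⟩), rfl⟩
  obtain ⟨V, hVT, hVM, hVZ, hVc⟩ := Nat.find_spec hexV
  have hVV : ⁅V, V⁆ ≤ Z := by
    by_contra hh
    have hne : V ≠ ⊥ := fun e => hVZ (e ▸ bot_le)
    haveI := (hT'p.to_le hVT).isNilpotent
    have hlt'' := hlt' V inferInstance hne
    refine Nat.find_min hexV (m := Nat.card (⁅V, V⁆ : Subgroup G)) ?_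
      ⟨⁅V, V⁆, hlt''.le.trans hVT, fun m hm => ?_, hh, rfl⟩
    · rw [← hVc]
      exact Set.Finite.card_lt_card (Set.toFinite _) hlt''
    · have h := hVM m hm
      unfold cj at h ⊢
      rw [Subgroup.map_commutator, h]
  have hVN : V ≤ N := hVT.trans hT'N
  obtain ⟨v0, hv0, hv0Z⟩ := SetLike.not_le_iff_exists.mp hVZ
  have hVτ : ∀ z ∈ V, IsPiElem {τ} z := fun z hz => by
    obtain ⟨k, hk⟩ := hT'p ⟨z, hVT hz⟩
    exact isPiElem_of_pow hτ (congrArg Subtype.val hk)
  obtain ⟨hA, hv0A⟩ := hH.comp_mem hv0Z ((hVτ v0 hv0).mono (sub_compl hτr))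
  set A := comp r v0
  -- `D ⊔ V` is normal
  have hdec : ∀ g : G, ∃ d ∈ D, ∃ m ∈ M, d * m = g := fun g =>
    Subgroup.mem_sup_of_normal_left.mp (hDM.symm ▸ Subgroup.mem_top g)
  haveI hDVn : (D ⊔ V).Normal := by
    refine ⟨fun z hz g => ?_⟩
    obtain ⟨e, he, c, hc, rfl⟩ := Subgroup.mem_sup_of_normal_left.mp hz
    rw [show g * (e * c) * g⁻¹ = (g * e * g⁻¹) * (g * c * g⁻¹) by group]
    refine mul_mem (Subgroup.mem_sup_left (hDn.conj_mem e he g)) ?_
    obtain ⟨d, hd, m, hm, rfl⟩ := hdec g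
    have hmc : m * c * m⁻¹ ∈ V := (hVM m hm).le (conj_mem_cj hc)
    rw [show d * m * c * (d * m)⁻¹ = d * (m * c * m⁻¹) * d⁻¹ by group, conj_eq_comm_mul]
    exact mul_mem (Subgroup.mem_sup_left (Subgroup.commutator_mem_commutator (hDN.le hd) (hVN hmc)))
      (Subgroup.mem_sup_right hmc)
  obtain ⟨σ, hσ, hστ, hlσ⟩ : ∃ σ, σ.Prime ∧ σ ≠ τ ∧ F.Lives σ := by
    by_cases e : s = τ
    · exact ⟨t, ht, fun e' => hst (e.trans e'.symm), hlt⟩
    · exact ⟨s, hs, e, hls⟩
  have hVA : V ≤ A := by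
    intro v' hv'
    have hv'N : v' ∈ Subgroup.normalizer (A : Set G) :=
      F.eq_center_mul hA hv0A hv0Z (hVV (Subgroup.commutator_mem_commutator hv' hv0))
    obtain ⟨w, hwA, hwσ, hwZ⟩ := hlσ A hA
    have hc1 : ⁅v', w⁆ ∈ D ⊔ V := by
      rw [show ⁅v', w⁆ = v' * (w * v'⁻¹ * w⁻¹) by rw [commutatorElement_def]; group]
      exact mul_mem (Subgroup.mem_sup_right hv')
        (hDVn.conj_mem _ (inv_mem (Subgroup.mem_sup_right hv')) w)
    have hc2 : ⁅v', w⁆ ∈ part A σ := by
      rw [commutatorElement_def]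
      exact mul_mem (F.part_conj_mem hA hv'N (mem_part_of hwA hwσ))
        (inv_mem (mem_part_of hwA hwσ))
    obtain ⟨hcA, hcσ⟩ := (F.mem_part hA).mp hc2
    obtain ⟨d, hd, c, hc, hdc⟩ := Subgroup.mem_sup_of_normal_left.mp hc1
    have hcD : ⁅v', w⁆ ∈ D := by
      rw [← QuotientGroup.eq_one_iff, ← QuotientGroup.mk'_apply]
      refine (hcσ.map _).eq_one (π := ({σ} : Set ℕ)) ?_
      refine IsPiElem.mono ?_ (sub_compl (Ne.symm hστ))
      rw [← hdc, map_mul, show QuotientGroup.mk' D d = 1 from (QuotientGroup.eq_one_iff d).mpr hd,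
        one_mul]
      exact (hVτ c hc).map _
    have hcom : Commute v' w :=
      commute_of_primes hτ hσ (Ne.symm hστ) (hVτ v' hv') hwσ (hDZ _ hcD (F.pi A hA _ hcA))
    exact F.mem_of_piElem hA hτ hlτ (hVτ v' hv') (F.closed A hA w hwA hwZ v' hcom)
  have hMA : ∀ m ∈ M, cj m A = A := fun m hm => cj_eq_of_mem_normalizer
    (F.mem_normalizer_of_conj hA hv0A hv0Z (hVA ((hVM m hm).le (conj_mem_cj hv0))))
  set L : Subgroup G := D ⊔ A with hL
  haveI hLn : L.Normal := by
    refine ⟨fun z hz g => ?_⟩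
    obtain ⟨e, he, c, hc, rfl⟩ := Subgroup.mem_sup_of_normal_left.mp hz
    rw [show g * (e * c) * g⁻¹ = (g * e * g⁻¹) * (g * c * g⁻¹) by group]
    refine mul_mem (Subgroup.mem_sup_left (hDn.conj_mem e he g)) ?_
    obtain ⟨d, hd, m, hm, rfl⟩ := hdec g
    have hmc : m * c * m⁻¹ ∈ A := (hMA m hm).le (conj_mem_cj hc)
    rw [show d * m * c * (d * m)⁻¹ = d * (m * c * m⁻¹) * d⁻¹ by group]
    exact mul_mem (mul_mem (Subgroup.mem_sup_left hd) (Subgroup.mem_sup_right hmc))
      (Subgroup.mem_sup_left (inv_mem hd))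
  have hall : ∀ w, IsPiElem ({r}ᶜ : Set ℕ) w → w ∈ L := by
    intro w hw
    by_cases hwZ : w ∈ Z
    · exact Subgroup.mem_sup_right (F.mem A hA w hw fun b _ => (commute_of_mem_center hwZ b).symm)
    · obtain ⟨hB, hwB⟩ := hH.comp_mem hwZ hw
      obtain ⟨g, hg⟩ := F.exists_conj hA hB hs ht hst hls hlt
      rw [← hg, mem_cj] at hwB
      have := hLn.conj_mem _ (Subgroup.mem_sup_right hwB : g⁻¹ * w * g ∈ L) g
      simpa [mul_assoc] using this
  haveI hLs : Group.IsSolvable L := by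
    haveI : Group.IsSolvable ((QuotientGroup.mk' D).comp L.subtype).range := by
      refine Group.isSolvable_of_comm fun p q => Subtype.ext ?_
      obtain ⟨⟨l₁, hl₁⟩, e₁⟩ := p.2
      obtain ⟨⟨l₂, hl₂⟩, e₂⟩ := q.2
      obtain ⟨d₁, hd₁, a₁, ha₁, f₁⟩ := Subgroup.mem_sup_of_normal_left.mp hl₁
      obtain ⟨d₂, hd₂, a₂, ha₂, f₂⟩ := Subgroup.mem_sup_of_normal_left.mp hl₂
      simp only [Subgroup.coe_mul, ← e₁, ← e₂, MonoidHom.comp_apply, Subgroup.coe_subtype, ← f₁,
        ← f₂, map_mul, show QuotientGroup.mk' D d₁ = 1 from (QuotientGroup.eq_one_iff d₁).mpr hd₁,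
        show QuotientGroup.mk' D d₂ = 1 from (QuotientGroup.eq_one_iff d₂).mpr hd₂, one_mul]
      rw [← map_mul, ← map_mul, (F.comm A hA a₁ ha₁ a₂ ha₂).eq]
    refine Group.isSolvable_of_ker_le_range (Subgroup.inclusion (le_sup_left : D ≤ L))
      ((QuotientGroup.mk' D).comp L.subtype).rangeRestrict ?_
    rw [MonoidHom.ker_rangeRestrict, ← MonoidHom.comap_ker, QuotientGroup.ker_mk',
      Subgroup.inclusion_range]
    exact le_rfl
  obtain ⟨hsol, k, hk⟩ := isSolvable_pGroup_quotient hH.prime L hLs hall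
  refine ⟨hsol, ?_⟩
  have hLA : Nat.card L * Nat.card (D ⊓ A : Subgroup G) = Nat.card A * Nat.card D := by
    have h1 := relIndex_mul_card (show D ≤ L from le_sup_left)
    have h2 := relIndex_mul_card (show D ⊓ A ≤ A from inf_le_right)
    rw [Subgroup.inf_relIndex_right] at h2
    rw [hL, Subgroup.relIndex_sup_left] at h1
    rw [hL, ← h1, ← h2]
    ring
  refine Nat.eq_of_factorization_eq ?_ (Nat.ordCompl_pos r Nat.card_pos.ne').ne' fun q => ?_
  · rw [← hH.card_comp hv0Z ((hVτ v0 hv0).mono (sub_compl hτr))]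
    exact Nat.card_pos.ne'
  rw [Nat.factorization_ordCompl, ← hH.card_comp hv0Z ((hVτ v0 hv0).mono (sub_compl hτr))]
  by_cases hqr : q = r
  · rw [hqr, Finsupp.erase_same]
    refine Nat.factorization_eq_zero_of_not_dvd fun hd => ?_
    haveI := Fact.mk hH.prime
    obtain ⟨z, hz⟩ := exists_prime_orderOf_dvd_card' r hd
    exact (F.pi A hA z.1 z.2) r hH.prime (by rw [Subgroup.orderOf_coe, hz]) rfl
  · rw [Finsupp.erase_ne hqr]
    by_cases hq : q.Prime
    · have hDA : (Nat.card (D ⊓ A : Subgroup G)).factorization q = (Nat.card D).factorization q :=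
        factorization_eq_of_forall_mem inf_le_left hq fun z hz hzq => ⟨hz,
          F.mem A hA z (hzq.mono (sub_compl hqr)) fun b _ =>
            (commute_of_mem_center (hDZ z hz (hzq.mono (sub_compl hqr))) b).symm⟩
      have h1 := congrArg (fun n : ℕ => n.factorization q) hLA
      simp only [Nat.factorization_mul Nat.card_pos.ne' Nat.card_pos.ne', Finsupp.add_apply,
        hDA] at h1
      rw [← Subgroup.card_mul_index L, hk, Nat.factorization_mul Nat.card_pos.ne'
        (pow_ne_zero _ hH.prime.ne_zero), Finsupp.add_apply, Nat.factorization_pow,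
        Finsupp.smul_apply, hH.prime.factorization, Finsupp.single_apply, if_neg (Ne.symm hqr)]
      simp only [smul_eq_mul, mul_zero, add_zero]
      change (Nat.card A).factorization q = _
      omega
    · rw [Nat.factorization_eq_zero_of_not_prime _ hq, Nat.factorization_eq_zero_of_not_prime _ hq]

end Hyp

end Cfsg.Agent.ConjRank
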