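import Cfsg.Agent.ConjRank.Local

/-!
Two centraliser orders of noncentral elements, no proper containments between centralisers.
-/

set_option autoImplicit false
set_option maxHeartbeats 400000

open scoped commutatorElement
open Cfsg.Agent.FG78

namespace Cfsg.Agent.ConjRank

universe u

variable {G : Type u} [Group G] [Finite G]

local notation "Z" => Subgroup.center G

/-- No centraliser of a noncentral element is properly contained in another. -/
def Flat (G : Type u) [Group G] : Prop :=
  ∀ x y : G, x ∉ Subgroup.center G → y ∉ Subgroup.center G →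
    Subgroup.centralizer ({x} : Set G) ≤ Subgroup.centralizer ({y} : Set G) →
    Subgroup.centralizer ({x} : Set G) = Subgroup.centralizer ({y} : Set G)

/-- The prime `t` divides `c / |Z|`. -/
def InP (G : Type u) [Group G] (c t : ℕ) : Prop :=
  t.Prime ∧ (Nat.card (Subgroup.center G)).factorization t < c.factorization t

theorem central_of_flat (hF : Flat G) {q : ℕ} {w : G} (hw : IsPiElem {q} w) (hwZ : w ∉ Z) {u : G}
    (hu : IsPiElem ({q}ᶜ : Set ℕ) u) (huw : Commute u w) {k : G} (hk : Commute k w) :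
    Commute k u := by
  have h1 := centralizer_mul_eq _ huw.symm hw hu
  have h2 := hF _ _ (mul_not_central huw.symm hw hu hwZ) hwZ (h1.le.trans inf_le_left)
  rw [h1, inf_eq_left] at h2
  exact mem_cent_iff.mp (h2 (mem_cent_iff.mpr hk))

theorem abelian_of_flat (hF : Flat G) {x : G} (hx : x ∉ Z) {s t : ℕ} (hst : s ≠ t)
    (hs : InP G (cc x) s) (ht : InP G (cc x) t) {a b : G} (ha : Commute a x) (hb : Commute b x) :
    Commute a b := by
  obtain ⟨q, hq, hwZ, hw, -⟩ := exists_primary hx
  set w := piPart {q} x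
  have hCx : Subgroup.centralizer ({x} : Set G) = Subgroup.centralizer ({w} : Set G) :=
    hF x w hx hwZ (cent_piPart_le {q} x)
  have hxw : ∀ g, Commute g x → Commute g w := fun g hg => commute_piPart _ x hg
  obtain ⟨σ, hσq, hσ⟩ : ∃ σ, σ ≠ q ∧ InP G (cc x) σ := by
    by_cases e : s = q
    · exact ⟨t, fun e' => hst (e.trans e'.symm), ht⟩
    · exact ⟨s, e, hs⟩
  obtain ⟨u, hu, huσ, huZ⟩ := exists_elem_of_lt hσ.1 (center_le_cent x) hσ.2
  rw [mem_cent_iff] at hu
  have huq := huσ.mono (sub_compl hσq)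
  have hCu : Subgroup.centralizer ({w} : Set G) = Subgroup.centralizer ({u} : Set G) :=
    hF w u hwZ huZ fun g hg => mem_cent_iff.mpr
      (central_of_flat hF hw hwZ huq (hxw u hu) (mem_cent_iff.mp hg))
  have hwu : ∀ g, Commute g x → Commute g u := fun g hg => mem_cent_iff.mp
    (hCu ▸ mem_cent_iff.mpr (hxw g hg))
  have h1 : Commute a (piPart' {q} b) :=
    central_of_flat hF hw hwZ (isPiElem_piPart' _ b) (commute_piPart' {q} b (hxw b hb).symm).symm
      (hxw a ha)
  have h2 : Commute a (piPart {q} b) :=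
    central_of_flat hF huσ huZ ((isPiElem_piPart {q} b).mono (sub_compl (Ne.symm hσq)))
      (commute_piPart {q} b (hwu b hb).symm).symm (hwu a ha)
  have h3 := h2.mul_right h1
  rwa [piPart_mul_piPart'] at h3

/-- Centralisers of order `c` of noncentral elements. -/
def CentSet (G : Type u) [Group G] (c : ℕ) : Set (Subgroup G) :=
  {A | ∃ w : G, w ∉ Subgroup.center G ∧ cc w = c ∧ A = Subgroup.centralizer ({w} : Set G)}

/-- The system of abelian centralisers of order `c`. -/
def centFam (hF : Flat G) {c : ℕ} (hab : ∀ w : G, w ∉ Z → cc w = c → ∀ a b : G, Commute a w →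
    Commute b w → Commute a b) : Fam G where
  π := Set.univ
  C := CentSet G c
  comm := by
    rintro _ ⟨w, hw, hc, rfl⟩ a ha b hb
    exact hab w hw hc a b (mem_cent_iff.mp ha) (mem_cent_iff.mp hb)
  pi := fun _ _ _ _ _ _ _ => trivial
  closed := by
    rintro _ ⟨w, hw, hc, rfl⟩ v hv hvZ g hg a ha
    have h : Subgroup.centralizer ({w} : Set G) = Subgroup.centralizer ({v} : Set G) :=
      hF w v hw hvZ fun x hx => mem_cent_iff.mpr
        (hab w hw hc x v (mem_cent_iff.mp hx) (mem_cent_iff.mp hv))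
    exact hab w hw hc g a (mem_cent_iff.mp (h ▸ mem_cent_iff.mpr hg)) (mem_cent_iff.mp ha)
  mem := by
    rintro _ ⟨w, hw, hc, rfl⟩ g - h
    exact mem_cent_iff.mpr (h w (mem_cent_iff.mpr (Commute.refl w)))
  conj := by
    rintro _ ⟨w, hw, hc, rfl⟩ g
    have e : cj g (Subgroup.centralizer ({w} : Set G)) =
        Subgroup.centralizer ({g * w * g⁻¹} : Set G) := by
      ext x
      rw [mem_cj, mem_cent_iff, mem_cent_iff]
      constructor
      · intro h
        have := h.map (MulAut.conj g).toMonoidHom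
        simpa [mul_assoc] using this
      · intro h
        have := h.map (MulAut.conj g⁻¹).toMonoidHom
        simpa [mul_assoc] using this
    refine ⟨g * w * g⁻¹, conj_not_central hw, ?_, e⟩
    unfold cc
    rw [← e, card_cj]
    exact hc
  card := by
    rintro _ ⟨w, hw, hc, rfl⟩ _ ⟨v, hv, hc', rfl⟩
    exact hc.trans hc'.symm

theorem factorization_center_le {H : Subgroup G} (hH : Z ≤ H) (t : ℕ) :
    (Nat.card (Z)).factorization t ≤ (Nat.card H).factorization t :=
  (Nat.factorization_le_iff_dvd Nat.card_pos.ne' Nat.card_pos.ne').mpr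
    (Subgroup.card_dvd_of_le hH) t

theorem card_cent_class {c : ℕ} {A : Subgroup G} (F : Fam G) (hC : F.C = CentSet G c)
    (hA : A ∈ F.C) (hone : ∀ B ∈ F.C, ∃ g : G, cj g A = B) :
    Nat.card {x : G // x ∉ Z ∧ cc x = c} =
      (Subgroup.normalizer (A : Set G)).index * Nat.card {a : G // a ∈ A ∧ a ∉ Z} := by
  classical
  have hcc : ∀ {B : Subgroup G}, B ∈ F.C → ∀ x ∈ B, x ∉ Z → cc x = c := by
    intro B hB x hx hxZ
    obtain ⟨w, hw, hc, rfl⟩ : B ∈ CentSet G c := hC ▸ hB
    rw [← hc]
    unfold cc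
    refine congrArg (fun H : Subgroup G => Nat.card H) ?_
    refine le_antisymm (fun g hg => mem_cent_iff.mpr ?_) (fun g hg => mem_cent_iff.mpr ?_)
    · exact F.closed _ hB x hx hxZ g (mem_cent_iff.mp hg) w (mem_cent_iff.mpr (Commute.refl w))
    · exact F.comm _ hB g hg x hx
  rw [Subgroup.index_eq_card, ← Nat.card_prod]
  refine Nat.card_congr (Equiv.ofBijective
    (fun p : (G ⧸ Subgroup.normalizer (A : Set G)) × {a : G // a ∈ A ∧ a ∉ Z} =>
      (⟨p.1.out * p.2.1 * p.1.out⁻¹, conj_not_central p.2.2.2,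
        hcc (F.conj A hA p.1.out) _ (conj_mem_cj p.2.2.1) (conj_not_central p.2.2.2)⟩ :
        {x : G // x ∉ Z ∧ cc x = c})) ⟨?_, ?_⟩).symm
  · rintro ⟨p, a, ha, haZ⟩ ⟨p', b, hb, hbZ⟩ h
    have h' : p.out * a * p.out⁻¹ = p'.out * b * p'.out⁻¹ := congrArg Subtype.val h
    have h1 : cj p.out A = cj p'.out A := F.eq_of_common (F.conj A hA _) (F.conj A hA _)
      (conj_mem_cj ha) (h' ▸ conj_mem_cj hb) (conj_not_central haZ)
    have h2 : p'.out⁻¹ * p.out ∈ Subgroup.normalizer (A : Set G) := by
      refine mem_normalizer_of_cj ?_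
      rw [cj_mul, h1, ← cj_mul, inv_mul_cancel]
      exact cj_eq_of_mem_normalizer (one_mem _)
    have h3 : p' = p := by
      rw [← QuotientGroup.out_eq' p, ← QuotientGroup.out_eq' p']
      exact QuotientGroup.eq.mpr h2
    subst h3
    exact Prod.ext rfl (Subtype.ext (by simpa using h'))
  · rintro ⟨x, hx, hxc⟩
    have hB : Subgroup.centralizer ({x} : Set G) ∈ F.C := hC.symm ▸ ⟨x, hx, hxc, rfl⟩
    obtain ⟨g, hg⟩ := hone _ hB
    set o := (QuotientGroup.mk g : G ⧸ Subgroup.normalizer (A : Set G)).out with ho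
    have hgo : g⁻¹ * o ∈ Subgroup.normalizer (A : Set G) := by
      rw [← QuotientGroup.eq, ho, QuotientGroup.out_eq']
    have hxA : o⁻¹ * x * o ∈ A := by
      have h1 : x ∈ cj g A := hg.symm ▸ mem_cent_iff.mpr (Commute.refl x)
      rw [← mem_cj, show o = g * (g⁻¹ * o) by group, cj_mul, cj_eq_of_mem_normalizer hgo]
      exact h1
    refine ⟨⟨QuotientGroup.mk g, o⁻¹ * x * o, hxA, ?_⟩, Subtype.ext ?_⟩
    · have := conj_not_central (g := o⁻¹) hx
      simpa using this
    · show o * (o⁻¹ * x * o) * o⁻¹ = x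
      group

theorem card_mem_not_center {A : Subgroup G} (hA : Z ≤ A) :
    Nat.card {a : G // a ∈ A ∧ a ∉ Z} + Nat.card (Z) = Nat.card A := by
  classical
  have h1 : Nat.card {a : G // a ∈ A ∧ a ∉ Z} = ((A : Set G) \ (Z : Set G)).ncard :=
    Nat.card_coe_set_eq _
  have h2 : Nat.card (Z) = (Z : Set G).ncard := Nat.card_coe_set_eq _
  have h3 : Nat.card A = (A : Set G).ncard := Nat.card_coe_set_eq _
  rw [h1, h2, h3]
  exact Set.ncard_sdiff_add_ncard_of_subset hA (Set.toFinite _)

theorem card_split {c1 c2 : ℕ} (hR : Rank2 G c1 c2) :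
    Nat.card {x : G // x ∉ Z ∧ cc x = c1} + Nat.card {x : G // x ∉ Z ∧ cc x = c2} + Nat.card (Z) =
      Nat.card G := by
  classical
  have h1 : Nat.card {x : G // x ∉ Z ∧ cc x = c1} = {x : G | x ∉ Z ∧ cc x = c1}.ncard :=
    Nat.card_coe_set_eq _
  have h2 : Nat.card {x : G // x ∉ Z ∧ cc x = c2} = {x : G | x ∉ Z ∧ cc x = c2}.ncard :=
    Nat.card_coe_set_eq _
  have h3 : Nat.card (Z) = (Z : Set G).ncard := Nat.card_coe_set_eq _
  rw [h1, h2, h3, ← Set.ncard_union_eq, ← Set.ncard_union_eq, ← Set.ncard_univ]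
  · congr 1
    refine Set.eq_univ_of_forall fun x => ?_
    by_cases hx : x ∈ Z
    · exact Or.inr hx
    · exact Or.inl ((hR.cases x hx).imp (fun h => ⟨hx, h⟩) fun h => ⟨hx, h⟩)
  · rw [Set.disjoint_left]
    rintro x (h | h) hx <;> exact h.1 hx
  · rw [Set.disjoint_left]
    exact fun x h h' => hR.lt.ne (h.2.symm.trans h'.2)

theorem false_or_solvable_of_self_normalizing (hF : Flat G) {c c' : ℕ} (hne : c ≠ c')
    (hcases : ∀ x : G, x ∉ Z → cc x = c ∨ cc x = c')
    (hab : ∀ w : G, w ∉ Z → cc w = c → ∀ a b : G, Commute a w → Commute b w → Commute a b)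
    (hab' : ∀ w : G, w ∉ Z → cc w = c' → ∀ a b : G, Commute a w → Commute b w → Commute a b)
    {w w' : G} (hw : w ∉ Z) (hwc : cc w = c) (hw' : w' ∉ Z) (hw'c : cc w' = c')
    {σ τ : ℕ} (hσ : InP G c' σ) (hτ : InP G c' τ) (hστ : σ ≠ τ)
    (hN : Subgroup.normalizer (Subgroup.centralizer ({w} : Set G) : Set G) =
      Subgroup.centralizer ({w} : Set G))
    (hcount : (Subgroup.normalizer (Subgroup.centralizer ({w} : Set G) : Set G)).index *
        Nat.card {a : G // a ∈ Subgroup.centralizer ({w} : Set G) ∧ a ∉ Z} +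
      (Subgroup.normalizer (Subgroup.centralizer ({w'} : Set G) : Set G)).index *
        Nat.card {a : G // a ∈ Subgroup.centralizer ({w'} : Set G) ∧ a ∉ Z} + Nat.card (Z) =
      Nat.card G) : Group.IsSolvable G := by
  classical
  set F := centFam hF hab
  set F' := centFam hF hab'
  set A := Subgroup.centralizer ({w} : Set G) with hAdef
  set B := Subgroup.centralizer ({w'} : Set G) with hBdef
  have hA : A ∈ F.C := ⟨w, hw, hwc, rfl⟩
  have hB : B ∈ F'.C := ⟨w', hw', hw'c, rfl⟩
  have hcA : Nat.card A = c := hwc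
  have hcB : Nat.card B = c' := hw'c
  have hlives : ∀ {d : ℕ} (hd : ∀ x : G, x ∉ Z → cc x = d → ∀ a b : G, Commute a x →
      Commute b x → Commute a b) {E : Subgroup G}, E ∈ (centFam hF hd).C → ∀ {t : ℕ},
      InP G d t → (centFam hF hd).Lives t := by
    rintro d hd E ⟨x, hx, hxc, rfl⟩ t ht
    obtain ⟨v, hv, hvt, hvZ⟩ := exists_elem_of_lt ht.1 (center_le_cent x) (by
      rw [show Nat.card (Subgroup.centralizer ({x} : Set G)) = cc x from rfl, hxc]; exact ht.2)
    exact (centFam hF hd).lives_of_exists ⟨x, hx, hxc, rfl⟩ ht.1 hv hvt hvZ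
  have hfullA : ∀ {t : ℕ}, InP G c t → c.factorization t = (Nat.card G).factorization t := by
    intro t ht
    refine le_antisymm (hcA ▸ (Nat.factorization_le_iff_dvd Nat.card_pos.ne'
      Nat.card_pos.ne').mpr (Subgroup.card_subgroup_dvd_card A) t) ?_
    by_contra hlt
    push Not at hlt
    obtain ⟨y, h, hy, -, hyZ, -, -, hhN, hhout, -, -⟩ :=
      F.exists_outside hA ht.1 (hlives hab hA ht) (by rw [hcA]; exact hlt)
    rw [hAdef, hN] at hhN
    exact hhout y hy hyZ (F.comm A hA h hhN y hy)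
  have hZA : Z ≤ A := center_le_cent w
  have hZB : Z ≤ B := center_le_cent w'
  set z := Nat.card (Z) with hz
  have hz0 : 0 < z := Nat.card_pos
  set nA := A.index with hnA
  set nB := (Subgroup.normalizer (B : Set G)).index with hnB
  have hnA0 : nA ≠ 0 := Subgroup.index_ne_zero_of_finite
  have hgA : c * nA = Nat.card G := hcA ▸ Subgroup.card_mul_index A
  set b' := Subgroup.relIndex (Subgroup.center G) B with hb'
  have hb'z : b' * z = c' := hcB ▸ relIndex_mul_card hZB
  have hb'0 : b' ≠ 0 := relIndex_ne _ _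
  have hc0 : c ≠ 0 := hcA ▸ Nat.card_pos.ne'
  have hfb : ∀ t, c'.factorization t = b'.factorization t + z.factorization t := fun t => by
    rw [← hb'z, Nat.factorization_mul hb'0 hz0.ne', Finsupp.add_apply]
  have hfg : ∀ t, (Nat.card G).factorization t = c.factorization t + nA.factorization t :=
    fun t => by rw [← hgA, Nat.factorization_mul hc0 hnA0, Finsupp.add_apply]
  have hzc : ∀ t, z.factorization t ≤ c.factorization t := fun t =>
    hcA ▸ factorization_center_le hZA t
  -- the primes of `b'` do not occur in `A`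
  have hdisj : ∀ {t : ℕ}, InP G c t → ¬ InP G c' t := by
    intro t ht ht'
    haveI := Fact.mk ht.1
    obtain ⟨v, hv, hvt, hvZ⟩ := exists_elem_of_lt ht.1 hZB (by rw [hcB]; exact ht'.2)
    obtain ⟨k, hk⟩ := exists_pow_of_isPiElem_singleton hvt
    obtain ⟨P, hP⟩ := (IsPGroup.of_card (n := k) (G := Subgroup.zpowers v)
      (by rw [Nat.card_zpowers, hk])).exists_le_sylow
    let PA : Sylow t G := Sylow.ofCard (part A t) (by
      rw [F.card_part hA ht.1, hcA, hfullA ht])
    obtain ⟨g, hg⟩ := MulAction.exists_smul_eq G P PA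
    have h1 : MulAut.conj g • v ∈ ((g • P : Sylow t G) : Subgroup G) :=
      Subgroup.smul_mem_pointwise_smul _ _ _ (hP (Subgroup.mem_zpowers v))
    rw [hg] at h1
    have h2 : g * v * g⁻¹ ∈ A := part_le A t h1
    have e1 : A = Subgroup.centralizer ({g * v * g⁻¹} : Set G) :=
      hF w _ hw (conj_not_central hvZ) fun x hx => mem_cent_iff.mpr
        (hab w hw hwc x _ (mem_cent_iff.mp hx) (mem_cent_iff.mp h2))
    have e2 : B = Subgroup.centralizer ({v} : Set G) :=
      hF w' _ hw' hvZ fun x hx => mem_cent_iff.mpr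
        (hab' w' hw' hw'c x _ (mem_cent_iff.mp hx) (mem_cent_iff.mp hv))
    apply hne
    rw [← hcA, ← hcB, e1, e2]
    have h4 := index_centralizer_conj g v
    have h5 := Subgroup.card_mul_index (Subgroup.centralizer ({g * v * g⁻¹} : Set G))
    rw [h4, ← Subgroup.card_mul_index (Subgroup.centralizer ({v} : Set G))] at h5
    exact Nat.eq_of_mul_eq_mul_right (Nat.pos_of_ne_zero Subgroup.index_ne_zero_of_finite) h5
  -- primes of the index of `A`
  have hlow : ∀ t, b'.factorization t ≤ nA.factorization t := by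
    intro t
    by_cases ht : InP G c' t
    · have h1 : (Nat.card (Z)).factorization t = c.factorization t :=
        le_antisymm (hzc t) (not_lt.mp fun h => hdisj ⟨ht.1, h⟩ ht)
      have h2 : c'.factorization t ≤ (Nat.card G).factorization t :=
        hcB ▸ (Nat.factorization_le_iff_dvd Nat.card_pos.ne' Nat.card_pos.ne').mpr
          (Subgroup.card_subgroup_dvd_card B) t
      rw [hfb, hfg, ← h1, hz] at h2
      omega
    · by_cases htp : t.Prime
      · have := hfb t
        have : ¬ z.factorization t < c'.factorization t := fun h => ht ⟨htp, h⟩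
        omega
      · rw [Nat.factorization_eq_zero_of_not_prime _ htp]; exact zero_le
  have hhigh : ∀ t, 0 < nA.factorization t → InP G c' t ∧
      nA.factorization t ≤ b'.factorization t + 1 := by
    intro t ht0
    have htp : t.Prime := by
      by_contra htp
      rw [Nat.factorization_eq_zero_of_not_prime _ htp] at ht0
      omega
    haveI := Fact.mk htp
    have hnot : ¬ InP G c t := fun h => by
      have := hfullA h
      rw [hfg] at this
      omega
    have hcz : c.factorization t = z.factorization t :=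
      le_antisymm (not_lt.mp fun h => hnot ⟨htp, h⟩) (hzc t)
    -- a central element of a Sylow subgroup modulo the centre
    obtain ⟨P⟩ := (inferInstance : Nonempty (Sylow t G))
    set f := QuotientGroup.mk' (Subgroup.center G) with hf
    haveI : Nontrivial ((P : Subgroup G).map f) :=
      (Subgroup.nontrivial_iff_ne_bot _).mpr fun e => by
        have h1 : (P : Subgroup G) ≤ Z := fun x hx => by
          have h2 : f x ∈ (P : Subgroup G).map f := Subgroup.mem_map_of_mem f hx
          rw [e, Subgroup.mem_bot] at h2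
          exact (QuotientGroup.eq_one_iff x).mp h2
        have h2 := Subgroup.card_dvd_of_le h1
        rw [P.card_eq_multiplicity] at h2
        have h3 := (htp.pow_dvd_iff_le_factorization hz0.ne').mp h2
        rw [hfg, hcz] at h3
        omega
    haveI := (P.isPGroup'.map f).center_nontrivial
    obtain ⟨⟨⟨_, x, hxP, rfl⟩, hc⟩, hne'⟩ := exists_ne (1 : Subgroup.center ((P : Subgroup G).map f))
    have hxZ : x ∉ Z := fun h => hne' (Subtype.ext (Subtype.ext
      ((QuotientGroup.eq_one_iff x).mpr h)))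
    have hxt : IsPiElem {t} x := by
      obtain ⟨k, hk⟩ := P.isPGroup' ⟨x, hxP⟩
      exact isPiElem_of_pow htp (congrArg Subtype.val hk)
    have hxc : cc x = c' := (hcases x hxZ).resolve_left fun e => hnot
      ⟨htp, e ▸ center_lt_cc htp hxt hxZ⟩
    have hP : InP G c' t := ⟨htp, hxc ▸ center_lt_cc htp hxt hxZ⟩
    refine ⟨hP, ?_⟩
    set E := Subgroup.centralizer ({x} : Set G)
    have hE : E ∈ F'.C := ⟨x, hxZ, hxc, rfl⟩
    have hPN : (P : Subgroup G) ≤ Subgroup.normalizer (E : Set G) := fun p hp => by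
      refine F'.eq_center_mul hE (mem_cent_iff.mpr (Commute.refl x)) hxZ ?_
      have h1 : f p * f x = f x * f p := congrArg Subtype.val
        (Subgroup.mem_center_iff.mp hc ⟨f p, Subgroup.mem_map_of_mem f hp⟩)
      refine (QuotientGroup.eq_one_iff _).mp ?_
      show f _ = 1
      rw [commutatorElement_def, map_mul, map_mul, map_mul, map_inv, map_inv, h1]
      group
    obtain ⟨ρ, hρ, hρt⟩ : ∃ ρ, InP G c' ρ ∧ ρ ≠ t := by
      by_cases e : σ = t
      · exact ⟨τ, hτ, fun e' => hστ (e.trans e'.symm)⟩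
      · exact ⟨σ, hσ, e⟩
    have h1 := F'.card_le_mul hE htp (hlives hab' hE hP) hρ.1 hρt (hlives hab' hE hρ) P
      P.isPGroup' hPN
    rw [P.card_eq_multiplicity, F'.card_part hE htp,
      show Nat.card E = c' from hxc, ← pow_succ'] at h1
    have h2 := (Nat.pow_le_pow_iff_right htp.one_lt).mp h1
    rw [hfg, hcz, hfb] at h2
    omega
  -- arithmetic
  have hdvd : b' ∣ nA := (Nat.factorization_le_iff_dvd hb'0 hnA0).mp fun t => hlow t
  obtain ⟨δ, hδ⟩ := hdvd
  have hδ0 : δ ≠ 0 := fun e => hnA0 (by rw [hδ, e, mul_zero])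
  have hfδ : ∀ t, nA.factorization t = b'.factorization t + δ.factorization t := fun t => by
    rw [hδ, Nat.factorization_mul hb'0 hδ0, Finsupp.add_apply]
  have hδb : δ ∣ b' := by
    refine (Nat.factorization_le_iff_dvd hδ0 hb'0).mp fun t => ?_
    by_cases h0 : nA.factorization t = 0
    · have := hfδ t; omega
    · obtain ⟨hin, hle⟩ := hhigh t (Nat.pos_of_ne_zero h0)
      have := hfδ t
      have : z.factorization t < c'.factorization t := hin.2
      have := hfb t
      omega
  have hA' := card_mem_not_center hZA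
  have hB' := card_mem_not_center hZB
  rw [hN] at hcount
  have e1 : nB * (b' - 1) * z + z = nA * z := by
    have hkey : Nat.card {a : G // a ∈ B ∧ a ∉ Z} = (b' - 1) * z := by
      rw [Nat.sub_mul, one_mul, hb'z, ← hcB, ← hB', ← hz]; omega
    have h1 : nA * Nat.card {a : G // a ∈ A ∧ a ∉ Z} + nA * z = Nat.card G := by
      rw [← mul_add, hA', hcA, ← hgA, mul_comm]
    have h2 : nB * (b' - 1) * z = nB * Nat.card {a : G // a ∈ B ∧ a ∉ Z} := by
      rw [hkey, mul_assoc]
    rw [h2]
    change nA * _ + nB * _ + z = _ at hcount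
    omega
  have e2 : nB * (b' - 1) + 1 = nA := Nat.eq_of_mul_eq_mul_right hz0 (by rw [add_mul, one_mul, e1])
  have hb2 : 2 ≤ b' := by
    have : z.factorization σ < c'.factorization σ := hσ.2
    have := hfb σ
    have h0 : b' ≠ 1 := fun e => by
      have : b'.factorization σ = 0 := by rw [e, Nat.factorization_one]; rfl
      omega
    omega
  by_cases hδ1 : δ = 1
  · -- `B` is normal and `G / B` is abelian
    rw [hδ1, mul_one] at hδ
    have hnB1 : nB = 1 := by
      have h3 : nB * (b' - 1) = 1 * (b' - 1) := by omega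
      exact Nat.eq_of_mul_eq_mul_right (by omega) h3
    haveI hBn : B.Normal := Subgroup.normalizer_eq_top_iff.mp (Subgroup.index_eq_one.mp hnB1)
    have hAB : A ⊓ B = Z := by
      refine le_antisymm (fun x hx => ?_) (le_inf hZA hZB)
      by_contra hxZ
      have e1 : A = Subgroup.centralizer ({x} : Set G) :=
        hF w _ hw hxZ fun y hy => mem_cent_iff.mpr
          (hab w hw hwc y _ (mem_cent_iff.mp hy) (mem_cent_iff.mp hx.1))
      have e2 : B = Subgroup.centralizer ({x} : Set G) :=
        hF w' _ hw' hxZ fun y hy => mem_cent_iff.mpr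
          (hab' w' hw' hw'c y _ (mem_cent_iff.mp hy) (mem_cent_iff.mp hx.2))
      exact hne (hcA ▸ hcB ▸ by rw [e1, ← e2])
    have htop : A ⊔ B = ⊤ := by
      refine Subgroup.eq_top_of_le_card _ (le_of_eq ?_)
      have h1 := relIndex_mul_card (le_sup_right : B ≤ A ⊔ B)
      have h2 := relIndex_mul_card (inf_le_left : A ⊓ B ≤ A)
      rw [Subgroup.relIndex_sup_right] at h1
      rw [Subgroup.inf_relIndex_left, hAB, hcA, ← hz] at h2
      rw [← h1, hcB, ← hb'z, ← hgA, hδ, ← h2]
      ring
    haveI : IsMulCommutative B :=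
      ⟨⟨fun p q => Subtype.ext (F'.comm B hB p p.2 q q.2).eq⟩⟩
    haveI : Group.IsSolvable B :=
      Group.isSolvable_of_comm fun p q => Subtype.ext (F'.comm B hB p p.2 q q.2).eq
    haveI : Group.IsSolvable (G ⧸ B) := Group.isSolvable_of_comm fun p q => by
      obtain ⟨g, rfl⟩ := QuotientGroup.mk'_surjective B p
      obtain ⟨k, rfl⟩ := QuotientGroup.mk'_surjective B q
      obtain ⟨a₁, ha₁, b₁, hb₁, rfl⟩ := Subgroup.mem_sup_of_normal_right.mp
        (htop.symm ▸ Subgroup.mem_top g : g ∈ A ⊔ B)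
      obtain ⟨a₂, ha₂, b₂, hb₂, rfl⟩ := Subgroup.mem_sup_of_normal_right.mp
        (htop.symm ▸ Subgroup.mem_top k : k ∈ A ⊔ B)
      simp only [map_mul, show QuotientGroup.mk' B b₁ = 1 from (QuotientGroup.eq_one_iff b₁).mpr hb₁,
        show QuotientGroup.mk' B b₂ = 1 from (QuotientGroup.eq_one_iff b₂).mpr hb₂, mul_one]
      rw [← map_mul, ← map_mul, (F.comm A hA a₁ ha₁ a₂ ha₂).eq]
    exact Group.isSolvable_of_ker_le_range B.subtype (QuotientGroup.mk' B)
      (by rw [QuotientGroup.ker_mk', Subgroup.range_subtype])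
  · exfalso
    have hδle : δ ≤ b' := Nat.le_of_dvd (Nat.pos_of_ne_zero hb'0) hδb
    obtain ⟨β, rfl⟩ : ∃ β, δ = β + 1 := ⟨δ - 1, by omega⟩
    have hd1 : b' - 1 ∣ β := by
      have h1 : (b' - 1) * (β + 1) + β + 1 = b' * (β + 1) := by
        obtain ⟨γ, hγ⟩ : ∃ γ, b' = γ + 1 := ⟨b' - 1, by omega⟩
        rw [hγ, Nat.add_sub_cancel]
        ring
      have h2 : (b' - 1) ∣ (b' - 1) * (β + 1) + β := ⟨nB, by
        rw [← e2, mul_comm nB] at hδ; omega⟩
      exact (Nat.dvd_add_right (dvd_mul_right _ _)).mp h2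
    have hβ := Nat.le_of_dvd (by omega) hd1
    have hδeq : β + 1 = b' := by omega
    have hsmall : ∀ {t : ℕ}, InP G c' t → c'.factorization t = z.factorization t + 1 := by
      intro t ht
      have := hfb t
      have := hfδ t
      rw [hδeq] at this
      have : z.factorization t < c'.factorization t := ht.2
      obtain ⟨-, h⟩ := hhigh t (by omega)
      omega
    have hdef : ∀ {t : ℕ}, InP G c' t →
        (Nat.card B).factorization t < (Nat.card G).factorization t := by
      intro t ht
      have := hsmall ht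
      have := hfb t
      have := hfδ t
      rw [hδeq] at this
      have := hfg t
      have := hzc t
      rw [hcB]
      omega
    have hbar : ∀ {t : ℕ}, InP G c' t → Fam.bar B t ≤ t := by
      intro t ht
      haveI := Fact.mk ht.1
      have h1 := relIndex_mul_card (show Subgroup.center G ⊓ part B t ≤ part B t from inf_le_right)
      rw [Subgroup.inf_relIndex_right, F'.card_part hB ht.1, hcB, hsmall ht, pow_succ'] at h1
      have h2 : (Nat.card (Subgroup.center G ⊓ part B t : Subgroup G)).factorization t =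
          z.factorization t :=
        factorization_eq_of_forall_mem inf_le_left ht.1 fun v hv hvt =>
          ⟨hv, mem_part_of (hZB hv) hvt⟩
      have h3 : t ^ z.factorization t ≤ Nat.card (Subgroup.center G ⊓ part B t : Subgroup G) :=
        h2 ▸ Nat.le_of_dvd (Nat.card_pos (α := (Subgroup.center G ⊓ part B t : Subgroup G)))
          (Nat.ordProj_dvd _ t)
      refine Nat.le_of_mul_le_mul_right ?_
        (Nat.card_pos (α := (Subgroup.center G ⊓ part B t : Subgroup G)))
      unfold Fam.bar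
      rw [h1]
      exact Nat.mul_le_mul_left t h3
    rcases F'.exists_large hB hσ.1 (hlives hab' hB hσ) hτ.1 (Ne.symm hστ) (hlives hab' hB hτ)
      (hdef hσ) (hdef hτ) with h | h
    · have := hbar hσ; omega
    · have := hbar hτ; omega

namespace Rank2

variable {c1 c2 : ℕ}

theorem hyp_of_flat (hF : Flat G) {c c' p : ℕ} (hp : p.Prime)
    (hcases : ∀ x : G, x ∉ Z → cc x = c ∨ cc x = c') (hcP : ∀ t, InP G c' t → t = p)
    {s t : ℕ} (hst : s ≠ t) (hs : InP G c s) (ht : InP G c t) : Hyp G p (ordCompl[p] c) := by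
  have hcc : ∀ w : G, w ∉ Z → IsPiElem ({p}ᶜ : Set ℕ) w → cc w = c := by
    intro w hw hwp
    obtain ⟨q, hq, hwqZ, hwq, hqd⟩ := exists_primary hw
    have hC : Subgroup.centralizer ({w} : Set G) = Subgroup.centralizer ({piPart {q} w} : Set G) :=
      hF w _ hw hwqZ (cent_piPart_le {q} w)
    refine (hcases w hw).resolve_right fun e => hwp q hq hqd (hcP q ⟨hq, ?_⟩)
    rw [← e]
    unfold cc
    rw [hC]
    exact center_lt_cc hq hwq hwqZ
  refine ⟨hp, fun w hw hwp g hg _ h hh => abelian_of_flat hF hw hst ?_ ?_ hg hh, fun w hw hwp => ?_⟩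
  · rw [hcc w hw hwp]; exact hs
  · rw [hcc w hw hwp]; exact ht
  · rw [show Nat.card (Subgroup.centralizer ({w} : Set G)) = cc w from rfl, hcc w hw hwp]

/-- The case without proper containments of centralisers. -/
theorem isSolvable_of_flat (hR : Rank2 G c1 c2) (hF : Flat G) : Group.IsSolvable G := by
  classical
  by_contra hG
  have hmix : ∀ {c c' : ℕ}, (∀ x : G, x ∉ Z → cc x = c ∨ cc x = c') →
      ∃ s t, s ≠ t ∧ InP G c' s ∧ InP G c' t := by
    intro c c' hcases
    by_contra hno
    push Not at hno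
    obtain ⟨p, hp, hcP⟩ : ∃ p, p.Prime ∧ ∀ t, InP G c' t → t = p := by
      by_cases h : ∃ t, InP G c' t
      · obtain ⟨p, hp⟩ := h
        exact ⟨p, hp.1, fun t ht => by_contra fun e => hno t p e ht hp⟩
      · exact ⟨2, Nat.prime_two, fun t ht => absurd ⟨t, ht⟩ h⟩
    have hin : ∀ {q : ℕ} {v : G}, q.Prime → q ≠ p → IsPiElem {q} v → v ∉ Z → InP G c q := by
      intro q v hq hqp hv hvZ
      rcases hcases v hvZ with e | e
      · exact ⟨hq, e ▸ center_lt_cc hq hv hvZ⟩
      · exact absurd (hcP q ⟨hq, e ▸ center_lt_cc hq hv hvZ⟩) hqp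
    obtain ⟨s, hs, hsp, -, u, hu, huZ⟩ := exists_third_prime hG p p
    obtain ⟨t, ht, htp, hts, v, hv, hvZ⟩ := exists_third_prime hG p s
    exact hG (hyp_of_flat hF hp hcases hcP (Ne.symm hts) (hin hs hsp hu huZ)
      (hin ht htp hv hvZ)).isSolvable
  obtain ⟨s2, t2, hst2, hs2, ht2⟩ := hmix hR.cases
  obtain ⟨s1, t1, hst1, hs1, ht1⟩ := hmix fun x hx => (hR.cases x hx).symm
  have hab : ∀ {c s t : ℕ}, s ≠ t → InP G c s → InP G c t → ∀ w : G, w ∉ Z → cc w = c →
      ∀ a b : G, Commute a w → Commute b w → Commute a b := by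
    rintro c s t hst hs ht w hw rfl a b ha hb
    exact abelian_of_flat hF hw hst hs ht ha hb
  obtain ⟨w1, hw1, hc1⟩ := hR.ex1
  obtain ⟨w2, hw2, hc2⟩ := hR.ex2
  have key : ∀ {c : ℕ} {w : G} (_ : w ∉ Z) (_ : cc w = c) {s t : ℕ}, s ≠ t → InP G c s →
      InP G c t → Nat.card {x : G // x ∉ Z ∧ cc x = c} =
        (Subgroup.normalizer (Subgroup.centralizer ({w} : Set G) : Set G)).index *
          Nat.card {a : G // a ∈ Subgroup.centralizer ({w} : Set G) ∧ a ∉ Z} := by
    intro c w hw hwc s t hst hs ht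
    let F := centFam hF (hab hst hs ht)
    have hA : Subgroup.centralizer ({w} : Set G) ∈ F.C := ⟨w, hw, hwc, rfl⟩
    have hlive : ∀ {q : ℕ}, InP G c q → F.Lives q := by
      intro q hq
      obtain ⟨v, hv, hvq, hvZ⟩ := exists_elem_of_lt hq.1 (center_le_cent w) (by
        rw [show Nat.card (Subgroup.centralizer ({w} : Set G)) = cc w from rfl, hwc]; exact hq.2)
      exact F.lives_of_exists hA hq.1 hv hvq hvZ
    exact card_cent_class F rfl hA fun B hB =>
      F.exists_conj hA hB hs.1 ht.1 hst (hlive hs) (hlive ht)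
  have hsplit := card_split hR
  rw [key hw1 hc1 hst1 hs1 ht1, key hw2 hc2 hst2 hs2 ht2] at hsplit
  set A1 := Subgroup.centralizer ({w1} : Set G) with hA1
  set A2 := Subgroup.centralizer ({w2} : Set G) with hA2
  set N1 := Subgroup.normalizer (A1 : Set G) with hN1
  set N2 := Subgroup.normalizer (A2 : Set G) with hN2
  by_cases h1 : N1 = A1
  · exact hG (false_or_solvable_of_self_normalizing hF hR.lt.ne hR.cases (hab hst1 hs1 ht1)
      (hab hst2 hs2 ht2) hw1 hc1 hw2 hc2 hs2 ht2 hst2 h1 hsplit)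
  by_cases h2 : N2 = A2
  · refine hG (false_or_solvable_of_self_normalizing hF hR.lt.ne' (fun x hx => (hR.cases x hx).symm)
      (hab hst2 hs2 ht2) (hab hst1 hs1 ht1) hw2 hc2 hw1 hc1 hs1 ht1 hst1 h2 ?_)
    rw [add_comm (N2.index * _)]
    exact hsplit
  have hhalf : ∀ {A : Subgroup G}, A ≠ Subgroup.normalizer (A : Set G) →
      2 * ((Subgroup.normalizer (A : Set G)).index * Nat.card A) ≤ Nat.card G := by
    intro A hA
    have h3 := relIndex_mul_card (Subgroup.le_normalizer (H := A))
    have h4 : 2 ≤ A.relIndex (Subgroup.normalizer (A : Set G)) := by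
      have h5 := relIndex_ne A (Subgroup.normalizer (A : Set G))
      have h6 : A.relIndex (Subgroup.normalizer (A : Set G)) ≠ 1 := fun e =>
        hA (le_antisymm Subgroup.le_normalizer (Subgroup.relIndex_eq_one.mp e))
      omega
    rw [← Subgroup.card_mul_index (Subgroup.normalizer (A : Set G)), ← h3,
      mul_comm (Subgroup.normalizer (A : Set G)).index, ← mul_assoc]
    exact Nat.mul_le_mul_right _ (Nat.mul_le_mul_right _ h4)
  have e1 := hhalf (Ne.symm h1)
  have e2 := hhalf (Ne.symm h2)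
  have d1 := card_mem_not_center (center_le_cent w1)
  have d2 := card_mem_not_center (center_le_cent w2)
  rw [← hA1] at d1
  rw [← hA2] at d2
  rw [← hN1] at e1
  rw [← hN2] at e2
  rw [← d1, mul_add] at e1
  rw [← d2, mul_add] at e2
  have hn1 : 1 * Nat.card (Z) ≤ N1.index * Nat.card (Z) :=
    Nat.mul_le_mul_right _ (Nat.one_le_iff_ne_zero.mpr Subgroup.index_ne_zero_of_finite)
  have hn2 : 1 * Nat.card (Z) ≤ N2.index * Nat.card (Z) :=
    Nat.mul_le_mul_right _ (Nat.one_le_iff_ne_zero.mpr Subgroup.index_ne_zero_of_finite)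
  have hz := Nat.card_pos (α := Subgroup.center G)
  omega

theorem isSolvable (hR : Rank2 G c1 c2) : Group.IsSolvable G := by
  by_cases h : ∃ x y : G, x ∉ Z ∧ y ∉ Z ∧
      Subgroup.centralizer ({x} : Set G) < Subgroup.centralizer ({y} : Set G)
  · obtain ⟨x, y, hx, hy, hlt⟩ := h
    exact hR.isSolvable_of_lt hx hy hlt
  · refine hR.isSolvable_of_flat fun x y hx hy hle => ?_
    by_contra hne
    exact h ⟨x, y, hx, hy, lt_of_le_of_ne hle hne⟩

end Rank2

/-- Three class sizes imply solvability. -/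
theorem isSolvable_of_three_class_sizes {n₁ n₂ : ℕ} (h12 : n₂ < n₁) (h2 : 1 < n₂)
    (h : ∀ x : G, (Subgroup.centralizer ({x} : Set G)).index = 1 ∨
      (Subgroup.centralizer ({x} : Set G)).index = n₂ ∨
      (Subgroup.centralizer ({x} : Set G)).index = n₁)
    (h₁ : ∃ x : G, (Subgroup.centralizer ({x} : Set G)).index = n₁)
    (h₂ : ∃ x : G, (Subgroup.centralizer ({x} : Set G)).index = n₂) : Group.IsSolvable G := by
  obtain ⟨x₁, hx₁⟩ := h₁
  obtain ⟨x₂, hx₂⟩ := h₂
  have hkey : ∀ x y : G, (Subgroup.centralizer ({x} : Set G)).index =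
      (Subgroup.centralizer ({y} : Set G)).index → cc x = cc y := by
    intro x y e
    have h1 := Subgroup.card_mul_index (Subgroup.centralizer ({x} : Set G))
    rw [e, ← Subgroup.card_mul_index (Subgroup.centralizer ({y} : Set G))] at h1
    exact Nat.eq_of_mul_eq_mul_right (Nat.pos_of_ne_zero Subgroup.index_ne_zero_of_finite) h1
  have hcent : ∀ x : G, x ∈ Z ↔ (Subgroup.centralizer ({x} : Set G)).index = 1 := fun x => by
    rw [Subgroup.index_eq_one, eq_top_iff]
    exact ⟨fun hx g _ => mem_cent_iff.mpr (commute_of_mem_center hx g),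
      fun hg => mem_center_of_forall fun g => mem_cent_iff.mp (hg (Subgroup.mem_top g))⟩
  have hlt : cc x₁ < cc x₂ := by
    have h1 := Subgroup.card_mul_index (Subgroup.centralizer ({x₁} : Set G))
    have h3 := Subgroup.card_mul_index (Subgroup.centralizer ({x₂} : Set G))
    rw [hx₁] at h1
    rw [hx₂] at h3
    unfold cc
    by_contra hle
    push Not at hle
    have h4 : Nat.card (Subgroup.centralizer ({x₂} : Set G)) * n₂ <
        Nat.card (Subgroup.centralizer ({x₂} : Set G)) * n₁ :=
      Nat.mul_lt_mul_of_pos_left h12 Nat.card_pos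
    have h5 := Nat.mul_le_mul_right n₁ hle
    omega
  refine Rank2.isSolvable (c1 := cc x₁) (c2 := cc x₂) ⟨hlt, fun x hx => ?_, ⟨x₁, ?_, rfl⟩,
    ⟨x₂, ?_, rfl⟩⟩
  · rcases h x with e | e | e
    · exact absurd ((hcent x).mpr e) hx
    · exact Or.inr (hkey x x₂ (e.trans hx₂.symm))
    · exact Or.inl (hkey x x₁ (e.trans hx₁.symm))
  · rw [hcent, hx₁]; omega
  · rw [hcent, hx₂]; omega

end Cfsg.Agent.ConjRank
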